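import Cfsg.Agent.Lib.Spor.McLThree.AutDefs

/-!
The cuts are right.
-/

set_option autoImplicit false
set_option maxRecDepth 100000
set_option maxHeartbeats 0
set_option Elab.async false

namespace CfsgLib.Spor.McLThree

theorem steps_ok : autSteps.all stepOK = true := by decide +kernel

theorem end_ok : endOK = true := by decide +kernel

theorem prod_ok : autProd = 6531840 ∧ fixSeq.all (fun z => Nat.blt z 275) = true ∧ fixSeq.take 1 = [0] ∧
    fixSeq.length = 6 := by decide +kernel

end CfsgLib.Spor.McLThree
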