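import Cfsg.Agent.Lib.Spor.McLThree.Elts
import Cfsg.Agent.Lib.Spor.McLThree.CheckAut

/-!
The graph on 275 points has at most twice as many automorphisms as the McLaughlin group has elements.
-/

set_option autoImplicit false
set_option maxRecDepth 100000

namespace CfsgLib.Spor.McLThree

open MulAction
open CfsgLib.Spor.McLPerm (fixSub pnt P)

/-- The automorphisms of the graph fixing the listed points. -/
def FixL (l : List ℕ) : Subgroup (Equiv.Perm V) where
  carrier := {σ | (∀ x y, Adj0 (σ x) (σ y) ↔ Adj0 x y) ∧ ∀ a ∈ l, σ (pnt a) = pnt a}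
  one_mem' := ⟨fun _ _ => Iff.rfl, fun _ _ => rfl⟩
  mul_mem' := fun {σ τ} hσ hτ => ⟨fun x y => (hσ.1 _ _).trans (hτ.1 x y), fun a ha => by
    rw [Equiv.Perm.mul_apply, hτ.2 a ha, hσ.2 a ha]⟩
  inv_mem' := fun {σ} hσ => ⟨fun x y => by rw [← hσ.1 (σ⁻¹ x) (σ⁻¹ y)]; simp, fun a ha => by
    rw [Equiv.Perm.inv_eq_iff_eq, hσ.2 a ha]⟩

/-- A list of points kept by the automorphisms. -/
def Inv (l : List ℕ) (m : List ℕ) : Prop :=
  m.Nodup ∧ (∀ z ∈ m, z < 275) ∧ ∀ σ ∈ FixL l, ∀ z : V, ((σ z).1 ∈ m ↔ z.1 ∈ m)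

theorem count_inv {l m : List ℕ} (hm : Inv l m) {σ : Equiv.Perm V} (hσ : σ ∈ FixL l) (z : V) :
    (m.countP fun q => adjOf adjM q (σ z).1) = m.countP fun q => adjOf adjM q z.1 := by
  classical
  obtain ⟨hn, hlt, hinv⟩ := hm
  have hc : ∀ w : V, (m.countP fun q => adjOf adjM q w.1) = {v : V | v.1 ∈ m ∧ Adj0 v w}.ncard := fun w => by
    rw [List.countP_eq_length_filter, ← List.toFinset_card_of_nodup (hn.filter _), ← Set.ncard_coe_finset,
      ← Set.ncard_image_of_injective {v : V | v.1 ∈ m ∧ Adj0 v w} Fin.val_injective]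
    congr 1
    ext c
    simp only [Set.mem_image, Set.mem_setOf_eq, List.coe_toFinset, List.mem_filter]
    exact ⟨fun ⟨h1, h2⟩ => ⟨⟨c, hlt c h1⟩, ⟨h1, h2⟩, rfl⟩, fun ⟨v, ⟨h1, h2⟩, e⟩ => e ▸ ⟨h1, h2⟩⟩
  rw [hc, hc, ← Set.ncard_image_of_injective {v : V | v.1 ∈ m ∧ Adj0 v z} σ.injective]
  congr 1
  ext v
  simp only [Set.mem_image, Set.mem_setOf_eq]
  constructor
  · rintro ⟨h1, h2⟩
    refine ⟨σ⁻¹ v, ⟨?_, ?_⟩, by simp⟩
    · rw [← hinv σ hσ]; simpa using h1
    · rw [← hσ.1]; simpa using h2
  · rintro ⟨v, ⟨h1, h2⟩, rfl⟩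
    exact ⟨(hinv σ hσ v).2 h1, (hσ.1 v z).2 h2⟩

theorem tab_inv {l : List ℕ} (hl : ∀ a ∈ l, a < 275) {ops : List (ℕ × ℕ × ℕ × List ℕ)} (h : cutsOK l ops = true) :
    ∀ k < 1 + l.length + ops.length, Inv l ((cellTab l ops).getD k []) := by
  simp only [cutsOK, List.all_eq_true, List.mem_range, Bool.and_eq_true, decide_eq_true_eq] at h
  intro k
  induction k using Nat.strong_induction_on with
  | _ k ih =>
    intro hk
    rcases k with _ | k
    · rw [cellTab, List.cons_append, List.getD_cons_zero]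
      exact ⟨List.nodup_range, fun z hz => List.mem_range.1 hz,
        fun σ _ z => iff_of_true (List.mem_range.2 (σ z).2) (List.mem_range.2 z.2)⟩
    rcases Nat.lt_or_ge k l.length with hkl | hkl
    · have e : (cellTab l ops).getD (k + 1) [] = [l[k]] := by
        rw [cellTab, List.cons_append, List.getD_cons_succ, List.getD_append _ _ _ _ (by simpa using hkl),
          List.getD_eq_getElem _ _ (by simpa using hkl), List.getElem_map]
      have hmem := List.getElem_mem hkl
      rw [e]
      refine ⟨List.nodup_singleton _, fun z hz => List.mem_singleton.1 hz ▸ hl _ hmem, fun σ hσ z => ?_⟩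
      have hp := hσ.2 _ hmem
      simp only [List.mem_singleton]
      constructor
      · intro h1
        have : σ z = σ (pnt l[k]) := by rw [hp]; exact Fin.ext (h1.trans (pnt_val (hl _ hmem)).symm)
        rw [σ.injective this]; exact pnt_val (hl _ hmem)
      · intro h1
        rw [show z = pnt l[k] from Fin.ext (h1.trans (pnt_val (hl _ hmem)).symm), hp]
        exact pnt_val (hl _ hmem)
    · obtain ⟨n, rfl⟩ := Nat.exists_eq_add_of_le hkl
      have hn : n < ops.length := by omega
      obtain ⟨⟨⟨⟨h1, h2⟩, hnd⟩, hlt⟩, heq⟩ := h n hn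
      have e : (cellTab l ops).getD (l.length + n + 1) [] = (ops.getD n (0, 0, 0, [])).2.2.2 := by
        rw [cellTab, List.cons_append, List.getD_cons_succ,
          List.getD_append_right _ _ _ _ (by simp), List.length_map, Nat.add_sub_cancel_left,
          List.getD_eq_getElem _ _ (by simpa using hn), List.getElem_map, List.getD_eq_getElem _ _ hn]
      rw [e]
      have i1 := ih _ (show (ops.getD n (0, 0, 0, [])).1 < _ by have := Nat.le_of_ble_eq_true h1; omega)
        (by have := Nat.le_of_ble_eq_true h1; omega)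
      have i2 := ih _ (show (ops.getD n (0, 0, 0, [])).2.1 < _ by have := Nat.le_of_ble_eq_true h2; omega)
        (by have := Nat.le_of_ble_eq_true h2; omega)
      refine ⟨hnd, fun z hz => Nat.le_of_ble_eq_true (hlt z hz), fun σ hσ z => ?_⟩
      rw [heq]
      unfold cellStep
      split
      · simp only [List.mem_filter, i1.2.2 σ hσ z, Bool.not_eq_true', List.any_eq_false]
        refine and_congr_right fun _ => ?_
        constructor
        · intro hne q hq hqe
          have : q = z.1 := (Nat.eq_of_beq_eq_true hqe).symm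
          subst this
          exact hne _ ((i2.2.2 σ hσ z).2 hq) (Nat.beq_refl _)
        · intro hne q hq hqe
          have : q = (σ z).1 := (Nat.eq_of_beq_eq_true hqe).symm
          subst this
          exact hne _ ((i2.2.2 σ hσ z).1 hq) (Nat.beq_refl _)
      · simp only [List.mem_filter, i1.2.2 σ hσ z, count_inv i2 hσ z]

theorem card_step (l : List ℕ) (b : ℕ) (tgt : List ℕ) (h : ∀ σ ∈ FixL l, (σ (pnt b)).1 ∈ tgt) :
    Nat.card (FixL l) ≤ tgt.length * Nat.card (FixL (l ++ [b])) := by
  classical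
  have e := Nat.card_congr (MulAction.orbitProdStabilizerEquivGroup (FixL l) (pnt b))
  rw [Nat.card_prod] at e
  rw [← e]
  refine Nat.mul_le_mul ?_ ?_
  · refine le_trans ?_ (List.toFinset_card_le tgt)
    let f : MulAction.orbit (FixL l) (pnt b) → {q // q ∈ tgt.toFinset} := fun o => ⟨o.1.1, by
      obtain ⟨⟨σ, hσ⟩, ho⟩ := o.2
      rw [List.mem_toFinset, ← ho]
      exact h σ hσ⟩
    have hf : Function.Injective f := fun o o' e => Subtype.ext (Fin.ext (Subtype.ext_iff.1 e))
    refine (Nat.card_le_card_of_injective f hf).trans_eq ?_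
    rw [Nat.card_eq_fintype_card, Fintype.card_coe]
  · let f : MulAction.stabilizer (FixL l) (pnt b) → FixL (l ++ [b]) := fun σ => ⟨σ.1.1, σ.1.2.1, fun a ha => by
      rcases List.mem_append.1 ha with h | h
      · exact σ.1.2.2 a h
      · rw [List.mem_singleton.1 h]; exact σ.2⟩
    have hf : Function.Injective f := fun o o' e => Subtype.ext (Subtype.ext (congrArg Subtype.val e :))
    exact Nat.card_le_card_of_injective f hf

theorem seq_lt : ∀ a ∈ fixSeq, a < 275 := fun a ha =>
  Nat.le_of_ble_eq_true (List.all_eq_true.1 prod_ok.2.1 a ha)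

theorem step_bound {s : (List (ℕ × ℕ × ℕ × List ℕ) × ℕ) × ℕ} (hs : s ∈ autSteps) (h6 : s.2 < 6) :
    Nat.card (FixL (fixSeq.take s.2)) ≤
      ((cellTab (fixSeq.take s.2) s.1.1).getD s.1.2 []).length * Nat.card (FixL (fixSeq.take (s.2 + 1))) := by
  have h := List.all_eq_true.1 steps_ok s hs
  simp only [stepOK, Bool.and_eq_true, List.any_eq_true] at h
  obtain ⟨⟨hc, hlt⟩, q, hq, hqe⟩ := h
  have hl : (fixSeq.take s.2).length = s.2 := by rw [List.length_take, prod_ok.2.2.2]; omega
  have hinv := tab_inv (fun a ha => seq_lt a (List.mem_of_mem_take ha)) hc s.1.2 (by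
    rw [hl]; exact Nat.le_of_ble_eq_true hlt)
  have hlen : s.2 < fixSeq.length := by rw [prod_ok.2.2.2]; exact h6
  rw [List.take_succ_eq_append_getElem hlen]
  refine card_step _ _ _ fun σ hσ => ?_
  refine (hinv.2.2 σ hσ _).2 ?_
  rw [pnt_val (seq_lt _ (List.getElem_mem hlen)), ← List.getD_eq_getElem _ 0 hlen, ← Nat.eq_of_beq_eq_true hqe]
  exact hq

theorem fixAll_trivial : FixL fixSeq = ⊥ := by
  refine (Subgroup.eq_bot_iff_forall _).2 fun σ hσ => Equiv.ext fun z => ?_
  have h := end_ok
  simp only [endOK, Bool.and_eq_true, List.all_eq_true, List.mem_range, decide_eq_true_eq] at h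
  obtain ⟨hc, hs⟩ := h
  obtain ⟨hlt, he⟩ := hs z.1 z.2
  have hinv := tab_inv seq_lt hc _ (Nat.le_of_ble_eq_true hlt)
  have := (hinv.2.2 σ hσ z).2 (by rw [he]; exact List.mem_singleton_self _)
  rw [he, List.mem_singleton] at this
  exact Fin.ext this

/-- **The automorphisms of the graph.** -/
theorem card_aut_le : Nat.card (FixL []) ≤ 275 * 6531840 := by
  have h0 : Nat.card (FixL []) ≤ 275 * Nat.card (FixL [0]) := by
    have := card_step [] 0 (List.range 275) fun σ _ => List.mem_range.2 (σ (pnt 0)).2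
    rwa [List.length_range] at this
  refine h0.trans (Nat.mul_le_mul_left _ ?_)
  have e1 : fixSeq.take 1 = [0] := prod_ok.2.2.1
  have s1 := step_bound (s := (cuts1, 1)) (by simp [autSteps]) (by norm_num)
  have s2 := step_bound (s := (cuts2, 2)) (by simp [autSteps]) (by norm_num)
  have s3 := step_bound (s := (cuts3, 3)) (by simp [autSteps]) (by norm_num)
  have s4 := step_bound (s := (cuts4, 4)) (by simp [autSteps]) (by norm_num)
  have s5 := step_bound (s := (cuts5, 5)) (by simp [autSteps]) (by norm_num)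
  simp only at s1 s2 s3 s4 s5
  rw [e1] at s1
  rw [show fixSeq.take (5 + 1) = fixSeq from List.take_of_length_le prod_ok.2.2.2.le, fixAll_trivial,
    Subgroup.card_bot, mul_one] at s5
  refine s1.trans ((Nat.mul_le_mul_left _ (s2.trans (Nat.mul_le_mul_left _ (s3.trans (Nat.mul_le_mul_left _
    (s4.trans (Nat.mul_le_mul_left _ s5))))))).trans (le_of_eq ?_))
  have := prod_ok.1
  simp only [autProd, autSteps, List.map_cons, List.map_nil, List.prod_cons, List.prod_nil, mul_one, e1] at this
  exact this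

end CfsgLib.Spor.McLThree
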