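import Cfsg.Agent.Lib.Spor.McLThree.CheckDefs
import Cfsg.Agent.Lib.Spor.McLThree.DataAut

/-!
Tests for the successive cuts of cells.
-/

set_option autoImplicit false
set_option maxRecDepth 100000

namespace CfsgLib.Spor.McLThree

/-- The cells: all points, the fixed ones and the cuts. -/
def cellTab (l : List ℕ) (ops : List (ℕ × ℕ × ℕ × List ℕ)) : List (List ℕ) :=
  List.range 275 :: (l.map fun a => [a]) ++ ops.map fun e => e.2.2.2

/-- Each cut is what it should be. -/
def cutsOK (l : List ℕ) (ops : List (ℕ × ℕ × ℕ × List ℕ)) : Bool :=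
  let tb := cellTab l ops
  (List.range ops.length).all fun n =>
    let e := ops.getD n (0, 0, 0, [])
    Nat.blt e.1 (1 + l.length + n) && Nat.blt e.2.1 (1 + l.length + n) && decide e.2.2.2.Nodup &&
      (e.2.2.2.all fun z => Nat.blt z 275) &&
      decide (e.2.2.2 = cellStep adjM (tb.getD e.1 []) (tb.getD e.2.1 []) e.2.2.1)

/-- The five steps with their cuts and last cells. -/
def autSteps : List ((List (ℕ × ℕ × ℕ × List ℕ) × ℕ) × ℕ) :=
  [(cuts1, 1), (cuts2, 2), (cuts3, 3), (cuts4, 4), (cuts5, 5)]

/-- A step is right: the next point lies in the last cell. -/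
def stepOK (s : (List (ℕ × ℕ × ℕ × List ℕ) × ℕ) × ℕ) : Bool :=
  cutsOK (fixSeq.take s.2) s.1.1 && Nat.blt s.1.2 (1 + s.2 + s.1.1.length) &&
    ((cellTab (fixSeq.take s.2) s.1.1).getD s.1.2 []).any fun z => Nat.beq z (fixSeq.getD s.2 0)

/-- Every point is a cell. -/
def endOK : Bool :=
  cutsOK fixSeq cutsEnd && (List.range 275).all fun z => Nat.blt (singles.getD z 0) (1 + fixSeq.length + cutsEnd.length) &&
    decide ((cellTab fixSeq cutsEnd).getD (singles.getD z 0) [] = [z])

/-- The product of the lengths of the last cells. -/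
def autProd : ℕ :=
  (autSteps.map fun s => ((cellTab (fixSeq.take s.2) s.1.1).getD s.1.2 []).length).prod

end CfsgLib.Spor.McLThree
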