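import Cfsg.Agent.Lib.Spor.McLThree.CheckDefs

/-!
The chains are chains.
-/

set_option autoImplicit false
set_option maxRecDepth 100000
set_option maxHeartbeats 0
set_option Elab.async false

namespace CfsgLib.Spor.McLThree

theorem pkA_ok : (flat chainA).all pkOK = true := by decide +kernel

theorem pkB_ok : (flat chainB).all pkOK = true := by decide +kernel

theorem pkE_ok : ([yE, tE] ++ uE ++ alphaH).all pkOK = true := by decide +kernel

theorem lvlA_ok : lvlsOK [0] lvA = true ∧ (lvA.map fun l => l.2.length).prod = 3265920 := by decide +kernel

theorem lvlB_ok : lvlsOK [0] lvB = true ∧ (lvB.map fun l => l.2.length).prod = 3265920 := by decide +kernel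

theorem tops_ok : topsOK = true := by decide +kernel

end CfsgLib.Spor.McLThree
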