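import Cfsg.Agent.Lib.Spor.McLThree.Defs
import Cfsg.Agent.Lib.Spor.McLThree.DataChain
import Cfsg.Agent.Lib.Spor.McLThree.DataImg
import Cfsg.Agent.Lib.Spor.McLThree.DataOrb

/-!
The tests for the recognition of the McLaughlin group by its rank three action.
-/

set_option autoImplicit false
set_option maxRecDepth 100000

namespace CfsgLib.Spor.McLThree

open CfsgLib.Spor.McLPerm (look eltRows)

/-- The set of the 112 points. -/
def maskN : ℕ := adjM.getD 0 0

/-- A point is among the 162. -/
def inMB (z : ℕ) : Bool := !bitB maskN z && !Nat.beq z 0

/-- The packed levels of the first chain. -/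
def lvA : List (ℕ × List ℕ) := levels chainA

/-- The packed levels of the second chain. -/
def lvB : List (ℕ × List ℕ) := levels chainB

/-- The first orbits of the two chains are the orbits of lengths 162 and 112. -/
def topsOK : Bool :=
  (List.range 275).all fun z =>
    (inMB z == ((lvA.getD 0 (0, [])).2.any fun g => Nat.beq (img g 3) z)) &&
      (bitB maskN z == ((lvB.getD 0 (0, [])).2.any fun g => Nat.beq (img g 1) z))

/-- The bases of the two chains. -/
def baseA : List ℕ := lvA.map Prod.fst

/-- The base inside the 112 points. -/
def baseB : List ℕ := lvB.map Prod.fst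

/-- The generators of the stabilizer of a point of the 112. -/
def gensJ : List ℕ := (lvB.drop 1).flatMap Prod.snd

/-- The generators of the stabilizer of a point of the 162. -/
def gensL : List ℕ := (lvA.drop 1).flatMap Prod.snd

/-- A normalising map, given by the images of the chain elements. -/
def conjOK (p : ℕ) (imgs : List (List ℕ)) (dom : ℕ → Bool) : Bool :=
  Nat.beq imgs.length (flat chainB).length && imgs.all okWord &&
    (List.range (flat chainB).length).all fun k => (List.range 275).all fun x =>
      !dom x || Nat.beq (wv (imgs.getD k []) (img p x)) (img p (img ((flat chainB).getD k (0, [])).1 x))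

/-- The permutation of the 112 points is one. -/
def alphaBij : Bool :=
  (List.range 275).all fun x => Nat.blt (img alphaPerm x) 275 && (bitB maskN x == bitB maskN (img alphaPerm x)) &&
    (List.range 275).all fun z => !Nat.beq (img alphaPerm z) (img alphaPerm x) || Nat.beq z x

/-- The exchanging permutation is one, fixes two points and keeps the orbit of 112. -/
def betaBij : Bool :=
  Nat.beq (img betaPerm 0) 0 && Nat.beq (img betaPerm 1) 1 &&
    (List.range 275).all fun x => Nat.blt (img betaPerm x) 275 && Nat.blt (img betaInv x) 275 &&
      Nat.beq (img betaPerm (img betaInv x)) x && Nat.beq (img betaInv (img betaPerm x)) x &&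
      (bitB maskN x == bitB maskN (img betaPerm x))

/-- The graph is kept by the four generators. -/
def adjOK : Bool :=
  (List.range 4).all fun k => (List.range 275).all fun x => (List.range 275).all fun z =>
    adjOf adjM x z == adjOf adjM (look eltRows k x) (look eltRows k z)

/-- An orbit of a two point stabilizer: the set is invariant and each point is reached. -/
def orbOK (gs : List ℕ) (b : ℕ) (o : ℕ × List (ℕ × List ℕ)) : Bool :=
  maskInv gs o.1 && (o.2.all fun e => okWord e.2 && Nat.beq (wv e.2 b) b &&
      Nat.beq (wv e.2 (o.2.headD (0, [])).1) e.1 && bitB o.1 e.1) &&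
    (List.range 275).all fun z => !bitB o.1 z || o.2.any fun e => Nat.beq e.1 z

/-- The six sets are as described. -/
def splitOK : Bool :=
  (List.range 275).all fun z =>
    (bitB maskN z == (Nat.beq z 1 || bitB o30.1 z || bitB o81.1 z)) &&
    (inMB z == (bitB o81a.1 z || bitB o81b.1 z)) && (inMB z == (Nat.beq z 3 || bitB o56.1 z || bitB o105.1 z)) &&
    (adjOf adjM 1 z == (Nat.beq z 0 || bitB o30.1 z || bitB o81a.1 z)) &&
    ((inMB z && adjOf adjM 3 z) == bitB o56.1 z) && !(bitB o30.1 z && bitB o81.1 z) &&
    !(bitB o81a.1 z && bitB o81b.1 z) && !(Nat.beq z 1 && (bitB o30.1 z || bitB o81.1 z)) &&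
    !(bitB o56.1 z && bitB o105.1 z) && !(Nat.beq z 3 && (bitB o56.1 z || bitB o105.1 z)) &&
    (!bitB o81b.1 z || bitB o81a.1 (img betaPerm z))

/-- Few points of 30 are joined to a given one of them. -/
def pairsOK : Bool :=
  (List.range 275).all fun p => !bitB o30.1 p || (lvB.getD 0 (0, [])).2.any fun g => Nat.beq (img g 1) p &&
    Nat.ble (((List.range 275).filter fun z => bitB o30.1 z && bitB o30.1 (img g z)).length) 7

/-- Equality of products at the base of the first chain. -/
def agreeA (f f' : ℕ → ℕ) : Bool := baseA.all fun x => Nat.beq (f x) (f' x)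

/-- A product commuting with the element of order three lies in it or gives one of the thirteen. -/
def leafC (p : List ℕ) : Bool :=
  !agreeA (fun x => ev p (img tE.1 x)) (fun x => img tE.1 (ev p x)) ||
    ((List.range 3).any fun i => agreeA (ev p) (itI tE.1 i)) ||
    (List.range 13).any fun c => (List.range 3).any fun i => (List.range 3).any fun j =>
      agreeA (fun x => itI tE.1 i (itF (ev p) j x)) (img (uE.getD c (0, [])).1)

/-- The search for the centralizer of the element of order three. -/
def scanC : Bool :=
  (lvA.getD 0 (0, [])).2.all fun a => !(fixM.any fun z => Nat.beq (img a 3) z) ||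
    (lvA.getD 1 (0, [])).2.all fun b => !(fixN.any fun z => Nat.beq (img a (img b 203)) z) ||
      (lvA.getD 2 (0, [])).2.all fun c => (lvA.getD 3 (0, [])).2.all fun d => leafC [a, b, c, d]

/-- A product normalising the element of order seven is one of twenty-one. -/
def leafN (p : List ℕ) : Bool :=
  ((List.range 7).all fun k => !Nat.beq (ev p (img yE.1 203)) (itI yE.1 k (ev p 203)) ||
      !agreeA (fun x => ev p (img yE.1 x)) (fun x => itI yE.1 k (ev p x))) ||
    (List.range 7).any fun i => (List.range 3).any fun j => agreeA (ev p) (fun x => itI yE.1 i (itI tE.1 j x))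

/-- The part of the search for the normaliser after two steps. -/
def scanN (lo hi : ℕ) : Bool :=
  (((lvA.getD 1 (0, [])).2.take hi).drop lo).all fun b =>
    (lvA.getD 2 (0, [])).2.all fun c => (lvA.getD 3 (0, [])).2.all fun d => leafN [b, c, d]

/-- The three generators of a case. -/
def caseGens (i : ℕ) : List ℕ :=
  if Nat.beq (kinds.getD i (0, [])).1 2 then alphaH.map Prod.fst
  else [yE.1, tE.1, (uE.getD i (0, [])).1]

/-- The orbits of a case fill the 162 points and only the first can be an orbit. -/
def caseOK (i : ℕ) : Bool :=
  let ps := (kinds.getD i (0, [])).2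
  let all := ps.flatMap Prod.fst
  (ps.all fun q => treeOK (caseGens i) q.1 q.2 && !q.1.isEmpty) &&
    decide all.Nodup && all.all inMB && ((List.range 275).all fun z => !inMB z || all.any (Nat.beq z)) &&
    onlyFirst (ps.getD 0 ([], [])).1.length ((ps.drop 1).map Prod.fst)

end CfsgLib.Spor.McLThree
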