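import Cfsg.Agent.Lib.Spor.McLThree.CheckDefs

/-!
Small checks for the search of the subgroups of index 162.
-/

set_option autoImplicit false
set_option maxRecDepth 100000
set_option maxHeartbeats 0
set_option Elab.async false

namespace CfsgLib.Spor.McLThree

open CfsgLib.Spor.McLPerm (look eltRows)

theorem alphaH_ok : (List.range 13).all (fun c => !Nat.beq (kinds.getD c (0, [])).1 2 ||
    (List.range 3).all fun k => (List.range 275).all fun x => !bitB maskN x ||
      Nat.beq (img (([alphaH.getD 0 (0, []), alphaH.getD 1 (0, []), alphaH.getD 2 (0, [])].getD k (0, [])).1)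
        (img alphaPerm x)) (img alphaPerm (img ([yE.1, tE.1, (uE.getD c (0, [])).1].getD k 0) x))) = true := by
  decide +kernel

theorem small_facts : agreeA (itI yE.1 7) id = true ∧ agreeA (itI tE.1 3) id = true ∧
    Nat.beq (img yE.1 203) 203 = false ∧ agreeA (img tE.1) id = false ∧
    ((List.range 275).all fun z => !Nat.beq (img yE.1 z) z || Nat.beq z 0 || Nat.beq z 3) = true ∧
    ((List.range 275).all fun z => !(inMB z && Nat.beq (img tE.1 z) z) || fixM.any fun q => Nat.beq q z) = true ∧
    ((List.range 275).all fun z => !(bitB maskN z && Nat.beq (img tE.1 z) z) || fixN.any fun q => Nat.beq q z) = true ∧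
    img tE.1 203 = 203 ∧ img tE.1 3 = 3 := by
  decide +kernel

theorem scan_split : lvA.map Prod.fst = [3, 203, 1, 2] ∧
    lvA.drop 1 = [lvA.getD 1 (0, []), lvA.getD 2 (0, []), lvA.getD 3 (0, [])] ∧
    lvA = [lvA.getD 0 (0, []), lvA.getD 1 (0, []), lvA.getD 2 (0, []), lvA.getD 3 (0, [])] ∧
    (lvA.getD 1 (0, [])).2 = ((lvA.getD 1 (0, [])).2.take 14).drop 0 ++ (((lvA.getD 1 (0, [])).2.take 28).drop 14 ++
      ((((lvA.getD 1 (0, [])).2.take 42).drop 28) ++ (((lvA.getD 1 (0, [])).2.take 56).drop 42))) ∧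
    ((lvA.drop 1).all fun l => l.2.all fun g => Nat.beq (img g 3) 3) = true ∧
    ((lvA.drop 2).all fun l => l.2.all fun g => Nat.beq (img g 203) 203) = true := by
  decide +kernel

theorem kinds_ok : ((List.range 13).all fun c =>
    let k := (kinds.getD c (0, [])).1
    let n := ((kinds.getD c (0, [])).2.getD 0 ([], [])).1.length
    (Nat.beq k 0 && !Nat.beq (20160 % n) 0) || ((Nat.beq k 1 || Nat.beq k 2) && Nat.beq n 1) ||
      (Nat.beq k 3 && Nat.beq n 36 && Nat.beq c u3Fix.1) ||
      (Nat.beq k 4 && Nat.beq n 42 && sevens.any fun s => Nat.beq s.1 c)) = true := by decide +kernel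

theorem u3_ok :
    let H := caseGens u3Fix.1
    let w := ((kinds.getD u3Fix.1 (0, [])).2.getD 0 ([], [])).1.getD 0 0
    let f := ev (u3Fix.2.map fun s => H.getD s 0)
    (u3Fix.2.all fun s => Nat.blt s H.length) = true ∧ agreeA (itF f 3) id = true ∧ agreeA f id = false ∧
      f w = w ∧ w < 275 := by
  decide +kernel

theorem sevens_ok : (sevens.all fun s =>
    let P0 := ((kinds.getD s.1 (0, [])).2.getD 0 ([], [])).1
    treeOK (caseGens s.1) s.2.2.1 s.2.2.2 && decide s.2.2.1.Nodup && Nat.beq s.2.2.1.length 7 &&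
      (List.range 275).all fun z =>
        (bitB maskN z && Nat.beq (P0.countP fun q => adjOf adjM q z) s.2.1) == s.2.2.1.any (Nat.beq z)) = true := by
  decide +kernel

end CfsgLib.Spor.McLThree
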