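import Cfsg.Agent.Lib.Spor.McLThree.CheckDefs

/-!
The orbits of two point stabilizers.
-/

set_option autoImplicit false
set_option maxRecDepth 100000
set_option maxHeartbeats 0
set_option Elab.async false

namespace CfsgLib.Spor.McLThree

theorem o30_ok : orbOK gensJ 1 o30 = true := by decide +kernel

theorem o81_ok : orbOK gensJ 1 o81 = true := by decide +kernel

theorem o81a_ok : orbOK gensJ 1 o81a = true := by decide +kernel

theorem o81b_ok : orbOK gensJ 1 o81b = true := by decide +kernel

theorem o56_ok : orbOK gensL 3 o56 = true := by decide +kernel

theorem o105_ok : orbOK gensL 3 o105 = true := by decide +kernel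

theorem split_ok : splitOK = true := by decide +kernel

theorem pairs_ok : pairsOK = true := by decide +kernel

theorem cases_ok : (List.range 13).all caseOK = true := by decide +kernel

end CfsgLib.Spor.McLThree
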