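import Cfsg.Agent.Lib.Spor.McLThree.CheckDefs

/-!
The outer permutations and the graph.
-/

set_option autoImplicit false
set_option maxRecDepth 100000
set_option maxHeartbeats 0
set_option Elab.async false

namespace CfsgLib.Spor.McLThree

theorem alpha_conj : conjOK alphaPerm alphaImg (bitB maskN) = true := by decide +kernel

theorem beta_conj : conjOK betaPerm betaImg (fun _ => true) = true := by decide +kernel

theorem alpha_bij : alphaBij = true := by decide +kernel

theorem beta_bij : betaBij = true := by decide +kernel

theorem adj_ok : adjOK = true := by decide +kernel

end CfsgLib.Spor.McLThree
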