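import Cfsg.Agent.Lib.Spor.McLThree.CheckDefs

/-!
The centralizer of an element of order three and the normaliser of one of order seven.
-/

set_option autoImplicit false
set_option maxRecDepth 100000
set_option maxHeartbeats 0
set_option Elab.async false

namespace CfsgLib.Spor.McLThree

theorem scanC_ok : scanC = true := by decide +kernel

theorem scanN_ok0 : scanN 0 14 = true := by decide +kernel

theorem scanN_ok1 : scanN 14 28 = true := by decide +kernel

theorem scanN_ok2 : scanN 28 42 = true := by decide +kernel

theorem scanN_ok3 : scanN 42 56 = true := by decide +kernel

end CfsgLib.Spor.McLThree
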