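import Cfsg.Agent.Lib.Spor.McLPerm.Data
import Cfsg.Agent.Lib.Spor.McLPerm.Cert

/-!
Tests on packed permutations of two hundred and seventy-five points, for the rank three recognition of the
McLaughlin group: chains of orbits, trees inside orbits and cells of a graph.
-/

set_option autoImplicit false
set_option maxRecDepth 100000

namespace CfsgLib.Spor.McLThree

open CfsgLib.Spor.McLPerm (look eltRows)

/-- The bit of a number at a place. -/
def bitB (m z : ℕ) : Bool := Nat.beq (Nat.land (Nat.shiftRight m z) 1) 1

/-- The image of a point under a packed permutation. -/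
def img (g x : ℕ) : ℕ := Nat.land (Nat.shiftRight g (9 * x)) 511

/-- The image under a product of packed permutations. -/
def ev (p : List ℕ) (x : ℕ) : ℕ := p.foldr img x

/-- The image under a product of the tabulated elements. -/
def wv (w : List ℕ) (x : ℕ) : ℕ := w.foldr (fun u b => look eltRows u b) x

/-- The factors fix the first point. -/
def okWord (w : List ℕ) : Bool := w.all fun u => Nat.blt u 891 && Nat.beq (look eltRows u 0) 0

/-- A packed permutation is the product of tabulated elements fixing the first point. -/
def pkOK (e : ℕ × List ℕ) : Bool :=
  okWord e.2 && (List.range 275).all fun x => Nat.beq (img e.1 x) (wv e.2 x) && Nat.blt (img e.1 x) 275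

/-- The orbits along a base, in packed permutations. -/
def lvlsOK : List ℕ → List (ℕ × List ℕ) → Bool
  | fixed, (b, T) :: r => Nat.blt b 275 && decide ((T.map fun g => img g b).Nodup) &&
      (T.all fun g => fixed.all fun c => Nat.beq (img g c) c) && lvlsOK (b :: fixed) r
  | _, [] => true

/-- The packed levels of a chain with its factors. -/
def levels (C : List (ℕ × List (ℕ × List ℕ))) : List (ℕ × List ℕ) := C.map fun l => (l.1, l.2.map Prod.fst)

/-- The packed elements of a chain. -/
def flat (C : List (ℕ × List (ℕ × List ℕ))) : List (ℕ × List ℕ) := C.flatMap Prod.snd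

/-- A list of elements maps a set into itself. -/
def maskInv (gs : List ℕ) (m : ℕ) : Bool :=
  gs.all fun g => (List.range 275).all fun z => !bitB m z || bitB m (img g z)

/-- The number of points of a set. -/
def popc (m : ℕ) : ℕ := ((List.range 275).filter (bitB m)).length

/-- Each point after the first is the image of an earlier one. -/
def treeOK (gs : List ℕ) (part : List ℕ) (ps : List (ℕ × ℕ)) : Bool :=
  part.all (fun z => Nat.blt z 275) &&
  (List.range part.length).all fun k => Nat.beq k 0 ||
    (Nat.blt (ps.getD k (0, 0)).1 k && Nat.blt (ps.getD k (0, 0)).2 gs.length &&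
      Nat.beq (img (gs.getD (ps.getD k (0, 0)).2 0) (part.getD (ps.getD k (0, 0)).1 0)) (part.getD k 0))

/-- The lengths admit only the first part as an orbit of a group of order 20160. -/
def onlyFirst (n : ℕ) (rest : List (List ℕ)) : Bool :=
  rest.sublists.all fun s => s.isEmpty || !Nat.beq (20160 % (n + (s.map List.length).sum)) 0

/-- Iterates. -/
def itI (g : ℕ) : ℕ → ℕ → ℕ
  | 0, x => x
  | k + 1, x => img g (itI g k x)

/-- Iterates of a function. -/
def itF (f : ℕ → ℕ) : ℕ → ℕ → ℕ
  | 0, x => x
  | k + 1, x => f (itF f k x)

/-- Adjacency in a graph given by the sets of neighbours. -/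
def adjOf (A : List ℕ) (x z : ℕ) : Bool := bitB (A.getD x 0) z

/-- The points of a list with a given number of neighbours in another list, or outside that list for the
number 300. -/
def cellStep (A : List ℕ) (parent other : List ℕ) (k : ℕ) : List ℕ :=
  if k = 300 then parent.filter fun z => !other.any (Nat.beq z)
  else parent.filter fun z => Nat.beq (other.countP fun q => adjOf A q z) k

end CfsgLib.Spor.McLThree
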