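import Cfsg.Agent.Lib.Spor.McLThree.Orbits
import Cfsg.Agent.Lib.Spor.McLThree.CheckOuter
import Cfsg.Agent.Lib.Spor.McLThree.CheckScan
import Cfsg.Agent.Lib.Spor.McLThree.CheckExtra

/-!
Elements of orders seven and three, an automorphism of the stabilizer and the graph.
-/

set_option autoImplicit false
set_option maxRecDepth 100000

namespace CfsgLib.Spor.McLThree

open MulAction
open CfsgLib.Spor.McLPerm (fixSub pnt P)

theorem pk_mem {e : ℕ × List ℕ} (h : e ∈ [yE, tE] ++ uE ++ alphaH) : ∃ x ∈ X, Does x (img e.1) :=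
  exists_pk (List.all_eq_true.1 pkE_ok e h)

/-- The element of a packed permutation with its factors. -/
noncomputable def el (e : ℕ × List ℕ) (h : e ∈ [yE, tE] ++ uE ++ alphaH) : ↥X :=
  ⟨(pk_mem h).choose, (pk_mem h).choose_spec.1⟩

theorem does_el (e : ℕ × List ℕ) (h : e ∈ [yE, tE] ++ uE ++ alphaH) : Does (el e h).1 (img e.1) :=
  (pk_mem h).choose_spec.2

/-- The element of order seven. -/
noncomputable def yX : ↥X := el yE (by simp)

/-- The element of order three. -/
noncomputable def tX : ↥X := el tE (by simp)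

theorem does_y : Does yX.1 (img yE.1) := does_el _ _

theorem does_t : Does tX.1 (img tE.1) := does_el _ _

theorem eq_one_of_agree {g : ↥X} {f : ℕ → ℕ} (dg : Does g.1 f) (h : agreeA f id = true) : g = 1 :=
  Subtype.ext (agreeA_eq g.2 (one_mem _) dg Does.one h)

theorem ne_one_of_agree {g : ↥X} {f : ℕ → ℕ} (dg : Does g.1 f) (h : agreeA f id = false) : g ≠ 1 := by
  intro e
  subst e
  have : agreeA f id = true := by
    simp only [agreeA, List.all_eq_true]
    intro b hb
    have hb' : b < 275 := by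
      have : baseA.all (fun x => Nat.blt x 275) = true := by decide +kernel
      exact Nat.le_of_ble_eq_true (List.all_eq_true.1 this b hb)
    rw [← dg.app hb', show ((1 : ↥X).1 (pnt b)) = pnt b from rfl, pnt_val hb']
    exact Nat.beq_refl _
  rw [h] at this
  exact Bool.noConfusion this

theorem order_y : orderOf yX = 7 := by
  haveI : Fact (Nat.Prime 7) := ⟨by norm_num⟩
  refine orderOf_eq_prime (eq_one_of_agree (g := yX ^ 7) (does_y.powI 7) small_facts.1) fun e => ?_
  have h := does_y (pnt 203)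
  rw [show (yX : ↥X).1 = 1 by rw [e]; rfl, Equiv.Perm.one_apply, pnt_val (by norm_num)] at h
  have := small_facts.2.2.1
  rw [← h] at this
  exact Bool.noConfusion this

theorem order_t : orderOf tX = 3 := by
  haveI : Fact (Nat.Prime 3) := ⟨Nat.prime_three⟩
  exact orderOf_eq_prime (eq_one_of_agree (g := tX ^ 3) (does_t.powI 3) small_facts.2.1)
    (ne_one_of_agree does_t small_facts.2.2.2.1)

theorem t_fix : tX.1 3 = 3 ∧ tX.1 (pnt 203) = pnt 203 :=
  ⟨Fin.ext ((does_t 3).trans small_facts.2.2.2.2.2.2.2.2),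
    Fin.ext ((does_t.app (by norm_num)).trans (small_facts.2.2.2.2.2.2.2.1.trans (pnt_val (by norm_num)).symm))⟩

/-! ### Graph -/

/-- Adjacency in the graph. -/
def Adj0 (x z : V) : Prop := adjOf adjM x.1 z.1 = true

theorem adj0_P {g : Equiv.Perm V} (hg : g ∈ P) (x z : V) : adjOf adjM (g x).1 (g z).1 = adjOf adjM x.1 z.1 := by
  rw [← McLPerm.closure_genSet] at hg
  revert x z
  induction hg using Subgroup.closure_induction with
  | mem h hh =>
    obtain ⟨-, k, hk, hm⟩ := hh
    intro x z
    have ha := adj_ok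
    simp only [adjOK, List.all_eq_true, List.mem_range, beq_iff_eq] at ha
    rw [hm x, hm z]
    exact (ha k hk x.1 x.2 z.1 z.2).symm
  | one => exact fun x z => rfl
  | mul a b _ _ ha hb => exact fun x z => by rw [Equiv.Perm.mul_apply, Equiv.Perm.mul_apply, ha, hb]
  | inv a _ ha => exact fun x z => by rw [← ha (a⁻¹ x) (a⁻¹ z)]; simp

/-! ### The automorphism -/

/-- The permutation of the 112 points. -/
def sig (x : V) : V := pnt (img alphaPerm x.1)

theorem sig_facts (x : V) : (sig x).1 = img alphaPerm x.1 ∧ (InN (sig x) ↔ InN x) ∧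
    ∀ z : V, sig z = sig x → z = x := by
  have h := alpha_bij
  simp only [alphaBij, List.all_eq_true, List.mem_range, Bool.and_eq_true, beq_iff_eq, Bool.or_eq_true,
    Bool.not_eq_true'] at h
  obtain ⟨⟨hlt, hN⟩, hinj⟩ := h x.1 x.2
  have e : (sig x).1 = img alphaPerm x.1 := pnt_val (Nat.le_of_ble_eq_true hlt)
  refine ⟨e, by rw [InN, InN, e, ← hN], fun z hz => Fin.ext ?_⟩
  obtain ⟨⟨hlt', -⟩, -⟩ := h z.1 z.2
  refine Nat.eq_of_beq_eq_true ((hinj z.1 z.2).resolve_left ?_)
  rw [← e, ← hz, show (sig z).1 = img alphaPerm z.1 from pnt_val (Nat.le_of_ble_eq_true hlt'), Nat.beq_refl]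
  decide

theorem sig_surj {q : V} (hq : InN q) : ∃ z, InN z ∧ sig z = q := by
  have hb : Function.Bijective sig :=
    Finite.injective_iff_bijective.1 fun a b e => (sig_facts b).2.2 a e
  obtain ⟨z, rfl⟩ := hb.2 q
  exact ⟨z, (sig_facts z).2.1.1 hq, rfl⟩

/-- An element and its conjugate on the 112 points. -/
def Rel (g g' : Equiv.Perm V) : Prop := ∀ q, InN q → g' (sig q) = sig (g q)

theorem rel_exists {g : Equiv.Perm V} (hg : g ∈ X) : ∃ g' ∈ X, Rel g g' := by
  obtain ⟨p, hp, dp⟩ := decB hg
  have hflat := forall2_flat hp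
  clear hp
  revert g
  induction p with
  | nil =>
    intro g _ dp
    exact ⟨1, one_mem _, fun q _ => congrArg sig (Fin.ext (dp q)).symm⟩
  | cons a p ih =>
    intro g hg dp
    obtain ⟨l, hl, hal⟩ := List.mem_flatMap.1 (hflat a List.mem_cons_self)
    simp only [lvB, levels, List.mem_map] at hl
    obtain ⟨l', hl', rfl⟩ := hl
    obtain ⟨e, he, hea⟩ := List.mem_map.1 hal
    have hef : e ∈ flat chainB := List.mem_flatMap.2 ⟨l', hl', he⟩
    obtain ⟨x, hx, dx⟩ := exists_pk (List.all_eq_true.1 pkB_ok e hef)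
    rw [hea] at dx
    obtain ⟨k, hk, hke⟩ := List.getElem_of_mem hef
    have hc := alpha_conj
    simp only [conjOK, Bool.and_eq_true, List.all_eq_true, List.mem_range, Bool.or_eq_true,
      Bool.not_eq_true'] at hc
    obtain ⟨⟨hlen, hok⟩, hrel⟩ := hc
    have hk' : k < alphaImg.length := by rw [Nat.eq_of_beq_eq_true hlen]; exact hk
    obtain ⟨x', hx', dx'⟩ := exists_word (alphaImg.getD k [])
      (by rw [List.getD_eq_getElem _ _ hk']; exact hok _ (List.getElem_mem hk'))
    obtain ⟨g', hg', hR⟩ := ih (fun b hb => hflat b (List.mem_cons_of_mem _ hb)) (g := x⁻¹ * g)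
      (mul_mem (inv_mem hx) hg) (fun i => by
        have h1 : ev p i.1 < 275 := by
          refine ev_lt p (fun b hb z hz => ?_) i.1 i.2
          obtain ⟨l1, hl1, hb1⟩ := List.mem_flatMap.1 (hflat b (List.mem_cons_of_mem _ hb))
          obtain ⟨y, -, dy⟩ := memB l1 hl1 b hb1
          rw [← dy.app hz]; exact (y (pnt z)).2
        have h2 : x ⟨ev p i.1, h1⟩ = g i := Fin.ext (by rw [dx, dp i]; rfl)
        rw [Equiv.Perm.mul_apply, ← h2]
        simp)
    refine ⟨x' * g', mul_mem hx' hg', fun q hq => ?_⟩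
    have hq' : InN ((x⁻¹ * g) q) := (inN_map (mul_mem (inv_mem hx) hg) q).2 hq
    rw [Equiv.Perm.mul_apply, hR q hq]
    set z := (x⁻¹ * g) q
    have hz := (hrel k hk z.1 z.2).resolve_left (by rw [show bitB maskN z.1 = true from hq']; decide)
    rw [List.getD_eq_getElem _ _ hk, hke, hea] at hz
    refine Fin.ext ?_
    rw [dx', (sig_facts z).1, Nat.eq_of_beq_eq_true hz, (sig_facts (g q)).1]
    congr 1
    rw [show g q = x z by simp [z], dx]
where
  ev_lt : ∀ (p : List ℕ), (∀ b ∈ p, ∀ z < 275, img b z < 275) → ∀ i < 275, ev p i < 275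
    | [], _, i, hi => hi
    | b :: p, h, i, hi => h b List.mem_cons_self _ (ev_lt p (fun c hc => h c (List.mem_cons_of_mem _ hc)) i hi)

theorem rel_unique {g a b : Equiv.Perm V} (ha : a ∈ X) (hb : b ∈ X) (ra : Rel g a) (rb : Rel g b) : a = b := by
  refine eq_of_baseB ha hb fun c hc => ?_
  have hN : baseB.all (fun x => bitB maskN x && Nat.blt x 275) = true := by decide +kernel
  have h := List.all_eq_true.1 hN c hc
  simp only [Bool.and_eq_true] at h
  obtain ⟨z, hz, e⟩ := sig_surj (q := pnt c) (by rw [InN, pnt_val (Nat.le_of_ble_eq_true h.2)]; exact h.1)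
  rw [← e, ra z hz, rb z hz]

/-- The automorphism. -/
noncomputable def alphaHom : ↥X →* ↥X where
  toFun g := ⟨(rel_exists g.2).choose, (rel_exists g.2).choose_spec.1⟩
  map_one' := Subtype.ext (rel_unique (rel_exists (1 : ↥X).2).choose_spec.1 (one_mem _)
    (rel_exists (1 : ↥X).2).choose_spec.2 fun q _ => rfl)
  map_mul' g h := Subtype.ext (rel_unique (rel_exists (g * h).2).choose_spec.1
    (mul_mem (rel_exists g.2).choose_spec.1 (rel_exists h.2).choose_spec.1)
    (rel_exists (g * h).2).choose_spec.2 fun q hq => by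
      rw [Subgroup.coe_mul, Subgroup.coe_mul, Equiv.Perm.mul_apply, (rel_exists h.2).choose_spec.2 q hq,
        (rel_exists g.2).choose_spec.2 _ ((inN_map h.2 q).2 hq)]
      rfl)

theorem alphaHom_rel (g : ↥X) : Rel g.1 (alphaHom g).1 := (rel_exists g.2).choose_spec.2

theorem alphaHom_injective : Function.Injective alphaHom := by
  refine (injective_iff_map_eq_one alphaHom).2 fun g hg => Subtype.ext (eq_of_baseB g.2 (one_mem _) fun c hc => ?_)
  have hN : baseB.all (fun x => bitB maskN x && Nat.blt x 275) = true := by decide +kernel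
  have h := List.all_eq_true.1 hN c hc
  simp only [Bool.and_eq_true] at h
  have hq : InN (pnt c) := by rw [InN, pnt_val (Nat.le_of_ble_eq_true h.2)]; exact h.1
  have e := alphaHom_rel g (pnt c) hq
  rw [hg] at e
  exact ((sig_facts _).2.2 _ e).symm

theorem finite_X : Finite ↥X := Nat.finite_of_card_ne_zero (by rw [card_X]; norm_num)

/-- The automorphism as an equivalence. -/
noncomputable def alpha : ↥X ≃* ↥X :=
  haveI := finite_X
  MulEquiv.ofBijective alphaHom (Finite.injective_iff_bijective.1 alphaHom_injective)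

theorem alpha_rel (g : ↥X) : Rel g.1 (alpha g).1 := alphaHom_rel g

end CfsgLib.Spor.McLThree
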