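import Cfsg.Agent.Lib.Spor.McLThree.Elts
import Mathlib.Combinatorics.Enumerative.DoubleCounting

/-!
The graph of a rank three group on 275 points is, after renaming the points, the graph of the model.
-/

set_option autoImplicit false
set_option maxRecDepth 100000

namespace CfsgLib.Spor.McLThree

open MulAction
open CfsgLib.Spor.McLPerm (fixSub pnt P)

/-- A transitive group with the point stabilizer of the model. -/
structure Setting (G : Subgroup (Equiv.Perm V)) : Prop where
  trans : ∀ x : V, ∃ g ∈ G, g 0 = x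
  stab : ∀ g ∈ G, (g 0 = 0 ↔ g ∈ X)
  le : X ≤ G

/-- The orbital of the orbit of 112 points. -/
def Adj (G : Subgroup (Equiv.Perm V)) (x y : V) : Prop := ∃ g ∈ G, g 0 = x ∧ InN (g⁻¹ y)

namespace Setting

variable {G : Subgroup (Equiv.Perm V)} (S : Setting G)
include S

theorem adj_zero (y : V) : Adj G 0 y ↔ InN y := by
  constructor
  · rintro ⟨g, hg, h0, hy⟩
    exact (inN_map (inv_mem ((S.stab g hg).1 h0)) y).1 hy
  · exact fun h => ⟨1, one_mem _, rfl, by simpa using h⟩

omit S in
theorem adj_map {h : Equiv.Perm V} (hh : h ∈ G) (x y : V) : Adj G (h x) (h y) ↔ Adj G x y := by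
  constructor
  · rintro ⟨g, hg, h0, hy⟩
    exact ⟨h⁻¹ * g, mul_mem (inv_mem hh) hg, by simp [h0], by simpa using hy⟩
  · rintro ⟨g, hg, h0, hy⟩
    exact ⟨h * g, mul_mem hh hg, by simp [h0], by simpa using hy⟩

omit S in
/-- The out-neighbourhood. -/
noncomputable def out (G : Subgroup (Equiv.Perm V)) (x : V) : Finset V := by
  classical exact Finset.univ.filter fun y => Adj G x y

omit S in
theorem mem_out {x y : V} : y ∈ out G x ↔ Adj G x y := by
  classical
  simp [out]

omit S in
theorem out_map {h : Equiv.Perm V} (hh : h ∈ G) (x : V) : out G (h x) = (out G x).image h := by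
  ext y
  simp only [Finset.mem_image, mem_out]
  refine ⟨fun hy => ⟨h⁻¹ y, ?_, by simp⟩, ?_⟩
  · rw [← adj_map hh]; simpa using hy
  · rintro ⟨z, hz, rfl⟩; exact (adj_map hh x z).2 hz

theorem card_out (x : V) : (out G x).card = 112 := by
  classical
  obtain ⟨g, hg, rfl⟩ := S.trans x
  rw [out_map hg, Finset.card_image_of_injective _ g.injective, ← ncard_N, ← Set.ncard_coe_finset]
  exact congrArg Set.ncard (Set.ext fun y => by simp [mem_out, S.adj_zero])

theorem adj_symm_zero (y : V) : Adj G y 0 ↔ InN y := by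
  classical
  let R : Finset V := Finset.univ.filter fun z => Adj G z 0
  have hR : ∀ z, z ∈ R ↔ Adj G z 0 := fun z => by simp [R]
  have hin : ∀ g ∈ G, (Finset.univ.filter fun z => Adj G z (g 0)) = R.image g := fun g hg => by
    ext z
    simp only [Finset.mem_filter, Finset.mem_univ, true_and, Finset.mem_image, hR]
    refine ⟨fun hz => ⟨g⁻¹ z, ?_, by simp⟩, ?_⟩
    · rw [← adj_map hg]; simpa using hz
    · rintro ⟨w, hw, rfl⟩; exact (adj_map hg w 0).2 hw
  have hcard : R.card = 112 := by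
    have h := Finset.sum_card_bipartiteAbove_eq_sum_card_bipartiteBelow (s := (Finset.univ : Finset V))
      (t := (Finset.univ : Finset V)) (Adj G)
    rw [Finset.sum_congr rfl (g := fun _ => 112) (fun x _ => (by
        rw [← S.card_out x]; exact congrArg Finset.card (Finset.ext fun y => by
          simp [Finset.bipartiteAbove, mem_out]) : _ = 112)),
      Finset.sum_congr rfl (s₁ := (Finset.univ : Finset V))
        (f := fun b => (Finset.bipartiteBelow (Adj G) Finset.univ b).card) (g := fun _ => R.card) (fun x _ => by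
        obtain ⟨g, hg, rfl⟩ := S.trans x
        rw [show Finset.bipartiteBelow (Adj G) Finset.univ (g 0) = R.image g from hin g hg,
          Finset.card_image_of_injective _ g.injective])] at h
    simp only [Finset.sum_const, Finset.card_univ, Fintype.card_fin, smul_eq_mul] at h
    omega
  have h0 : (0 : V) ∉ R := fun h => by
    have := (S.adj_zero 0).1 ((hR 0).1 h)
    rcases partition 0 with ⟨-, hn, -⟩ | ⟨hne, -⟩
    · exact hn this
    · exact hne rfl
  have hinv : ∀ g ∈ X, ∀ z, z ∈ R → g z ∈ R := fun g hg z hz => by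
    rw [hR] at hz ⊢
    rw [← X_fix hg]; exact (adj_map (S.le hg) z 0).2 hz
  have hM : ∀ z ∈ R, ¬ InM z := by
    intro z hz hm
    obtain ⟨g, hg, rfl⟩ := (inM_iff z).1 hm
    have hsub : {c : V | InM c} ⊆ (R : Set V) := fun c hc => by
      obtain ⟨k, hk, rfl⟩ := (inM_iff c).1 hc
      have := hinv (k * g⁻¹) (mul_mem hk (inv_mem hg)) _ hz
      simpa using this
    have := Set.ncard_le_ncard hsub
    rw [ncard_M, Set.ncard_coe_finset, hcard] at this
    omega
  have hsub : (R : Set V) ⊆ {c : V | InN c} := fun c hc => by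
    rcases partition c with ⟨rfl, -, -⟩ | ⟨-, ⟨hn, -⟩ | ⟨hm, -⟩⟩
    · exact absurd hc h0
    · exact hn
    · exact absurd hm (hM c hc)
  have heq := Set.eq_of_subset_of_ncard_le hsub (by rw [ncard_N, Set.ncard_coe_finset, hcard])
  rw [← hR y]
  exact Set.ext_iff.1 heq y

theorem adj_symm (x y : V) : Adj G x y ↔ Adj G y x := by
  obtain ⟨g, hg, rfl⟩ := S.trans x
  have e : y = g (g⁻¹ y) := by simp
  rw [e, adj_map hg, adj_map hg, S.adj_zero, S.adj_symm_zero]

theorem adj_irrefl (x : V) : ¬ Adj G x x := by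
  obtain ⟨g, hg, rfl⟩ := S.trans x
  rw [adj_map hg, S.adj_zero]
  rcases partition 0 with ⟨-, hn, -⟩ | ⟨hne, -⟩
  · exact hn
  · exact absurd rfl hne

theorem card_G : Nat.card G = 275 * 3265920 := by
  have e : G ⊓ stabilizer (Equiv.Perm V) (0 : V) = X :=
    le_antisymm (fun g hg => (S.stab g hg.1).1 hg.2) fun g hg => ⟨S.le hg, X_fix hg⟩
  have h := orb_mul G 0
  rw [e, show orb G 0 = Set.univ from Set.eq_univ_of_forall S.trans, Set.ncard_univ, Nat.card_fin, card_X] at h
  exact h.symm

end Setting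

/-- The possible neighbourhoods of the second point. -/
def selOne (b30 b81 ba bb : Bool) (z : ℕ) : Bool :=
  Nat.beq z 0 || b30 && bitB o30.1 z || b81 && bitB o81.1 z || ba && bitB o81a.1 z || bb && bitB o81b.1 z

theorem sel_count : ∀ b30 b81 ba bb : Bool, ((List.range 275).filter (selOne b30 b81 ba bb)).length = 112 →
    b30 = true ∧ ((b81 = true ∧ ba = false ∧ bb = false) ∨ (b81 = false ∧ ba = true ∧ bb = false) ∨
      (b81 = false ∧ ba = false ∧ bb = true)) := by
  decide +kernel

theorem ncard_bool (f : ℕ → Bool) : {z : V | f z.1 = true}.ncard = ((List.range 275).filter f).length := by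
  classical
  rw [← List.toFinset_card_of_nodup ((List.nodup_range).filter _), ← Set.ncard_coe_finset,
    ← Set.ncard_image_of_injective {z : V | f z.1 = true} Fin.val_injective]
  congr 1
  ext c
  simp only [Set.mem_image, Set.mem_setOf_eq, List.coe_toFinset, List.mem_filter, List.mem_range]
  exact ⟨fun ⟨z, hz, e⟩ => e ▸ ⟨z.2, hz⟩, fun ⟨h1, h2⟩ => ⟨⟨c, h1⟩, h2, rfl⟩⟩

theorem block {H : Subgroup (Equiv.Perm V)} {A T : Set V} (hA : ∀ v ∈ A, orb H v = A)
    (hT : ∀ g ∈ H, ∀ z ∈ T, g z ∈ T) [Decidable (∃ w ∈ A, w ∈ T)] (z : V) (hz : z ∈ A) :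
    z ∈ T ↔ decide (∃ w ∈ A, w ∈ T) = true := by
  rw [decide_eq_true_iff]
  refine ⟨fun h => ⟨z, hz, h⟩, fun ⟨w, hw, hwT⟩ => ?_⟩
  rw [← hA w hw] at hz
  obtain ⟨g, hg, rfl⟩ := hz
  exact hT g hg w hwT

theorem split_facts (z : V) :
    (InN z ↔ z = 1 ∨ z ∈ setOf' o30.1 ∨ z ∈ setOf' o81.1) ∧
    (InM z ↔ z ∈ setOf' o81a.1 ∨ z ∈ setOf' o81b.1) ∧
    (InM z ↔ z = 3 ∨ z ∈ setOf' o56.1 ∨ z ∈ setOf' o105.1) ∧
    (adjOf adjM 1 z.1 = selOne true false true false z.1) ∧
    ((InM z ∧ adjOf adjM 3 z.1 = true) ↔ z ∈ setOf' o56.1) ∧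
    (z ∈ setOf' o81b.1 → pnt (img betaPerm z.1) ∈ setOf' o81a.1) := by
  have h := split_ok
  simp only [splitOK, List.all_eq_true, List.mem_range, Bool.and_eq_true, beq_iff_eq] at h
  obtain ⟨⟨⟨⟨⟨⟨⟨⟨⟨⟨-, h2⟩, h3⟩, h4⟩, h5⟩, -⟩, -⟩, -⟩, -⟩, -⟩, h11⟩ := h z.1 z.2
  refine ⟨inN_split z, ?_, ?_, ?_, ?_, fun hz => ?_⟩
  · rw [InM, h2]; simp [setOf']
  · rw [InM, h3]
    simp only [Bool.or_eq_true, setOf', Set.mem_setOf_eq, or_assoc]
    exact or_congr_left ⟨fun e => Fin.ext (Nat.eq_of_beq_eq_true e), fun e => by subst e; rfl⟩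
  · rw [h4]; simp [selOne]
  · rw [InM, ← Bool.and_eq_true, h5]; rfl
  · simp only [Bool.or_eq_true, Bool.not_eq_true'] at h11
    have h := h11.resolve_left (by rw [show bitB o81b.1 z.1 = true from hz]; decide)
    have hb := beta_bij
    simp only [betaBij, List.all_eq_true, List.mem_range, Bool.and_eq_true] at hb
    show bitB o81a.1 (pnt (img betaPerm z.1)).1 = true
    rw [pnt_val (Nat.le_of_ble_eq_true (hb.2 z.1 z.2).1.1.1.1)]
    exact h

theorem disjoint_ab (z : V) : ¬ (z ∈ setOf' o81a.1 ∧ z ∈ setOf' o81b.1) := by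
  rintro ⟨ha, hb⟩
  have h := split_ok
  simp only [splitOK, List.all_eq_true, List.mem_range, Bool.and_eq_true, Bool.not_eq_true',
    Bool.and_eq_false_iff] at h
  obtain ⟨⟨⟨⟨⟨-, h7⟩, -⟩, -⟩, -⟩, -⟩ := h z.1 z.2
  rcases h7 with h7 | h7
  · rw [show bitB o81a.1 z.1 = true from ha] at h7; exact Bool.noConfusion h7
  · rw [show bitB o81b.1 z.1 = true from hb] at h7; exact Bool.noConfusion h7

/-- **The neighbours of the second point.** -/
theorem pattern {G : Subgroup (Equiv.Perm V)} (S : Setting G) :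
    (∀ z, Adj G 1 z ↔ selOne true false true false z.1 = true) ∨
      (∀ z, Adj G 1 z ↔ selOne true false false true z.1 = true) := by
  classical
  set T : Set V := {z | Adj G 1 z}
  have hT : ∀ g ∈ J, ∀ z ∈ T, g z ∈ T := fun g hg z hz => by
    show Adj G 1 (g z)
    rw [← (mem_J.1 hg).2]
    exact (Setting.adj_map (S.le (mem_J.1 hg).1) 1 z).2 hz
  set b30 := decide (∃ w ∈ setOf' o30.1, w ∈ T) with hb30
  set b81 := decide (∃ w ∈ setOf' o81.1, w ∈ T) with hb81
  set ba := decide (∃ w ∈ setOf' o81a.1, w ∈ T) with hba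
  set bb := decide (∃ w ∈ setOf' o81b.1, w ∈ T) with hbb
  have h30 := fun z hz => block o30_orbit hT z hz
  have h81 := fun z hz => block o81_orbit hT z hz
  have ha := fun z hz => block o81a_orbit hT z hz
  have hb := fun z hz => block o81b_orbit hT z hz
  have hT0 : (0 : V) ∈ T := (S.adj_symm 0 1).1 ((S.adj_zero 1).2 inN_one)
  have key : ∀ z : V, z ∈ T ↔ selOne b30 b81 ba bb z.1 = true := by
    intro z
    simp only [selOne, Bool.or_eq_true, Bool.and_eq_true]
    constructor
    · intro hz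
      rcases partition z with ⟨rfl, -, -⟩ | ⟨-, ⟨hn, -⟩ | ⟨hm, -⟩⟩
      · exact Or.inl (Or.inl (Or.inl (Or.inl rfl)))
      · rcases (inN_split z).1 hn with rfl | h | h
        · exact absurd hz (S.adj_irrefl 1)
        · exact Or.inl (Or.inl (Or.inl (Or.inr ⟨(h30 z h).1 hz, h⟩)))
        · exact Or.inl (Or.inl (Or.inr ⟨(h81 z h).1 hz, h⟩))
      · rcases (split_facts z).2.1.1 hm with h | h
        · exact Or.inl (Or.inr ⟨(ha z h).1 hz, h⟩)
        · exact Or.inr ⟨(hb z h).1 hz, h⟩
    · rintro ((((h | ⟨h, hz⟩) | ⟨h, hz⟩) | ⟨h, hz⟩) | ⟨h, hz⟩)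
      · rw [show z = 0 from Fin.ext (Nat.eq_of_beq_eq_true h)]; exact hT0
      · exact (h30 z hz).2 h
      · exact (h81 z hz).2 h
      · exact (ha z hz).2 h
      · exact (hb z hz).2 h
  have hc : T.ncard = 112 := by
    rw [← S.card_out 1, ← Set.ncard_coe_finset]
    exact congrArg Set.ncard (Set.ext fun z => by simp [T, Setting.mem_out])
  rw [show T = {z : V | selOne b30 b81 ba bb z.1 = true} from Set.ext key, ncard_bool] at hc
  obtain ⟨e30, ⟨e81, ea, eb⟩ | ⟨e81, ea, eb⟩ | ⟨e81, ea, eb⟩⟩ := sel_count _ _ _ _ hc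
  · exfalso
    have hTN : ∀ z ∈ T, z = 0 ∨ InN z := fun z hz => by
      have := (key z).1 hz
      simp only [selOne, e30, e81, ea, eb, Bool.true_and, Bool.false_and, Bool.or_false, Bool.or_eq_true] at this
      rcases this with (h | h) | h
      · exact Or.inl (Fin.ext (Nat.eq_of_beq_eq_true h))
      · exact Or.inr ((inN_split z).2 (Or.inr (Or.inl h)))
      · exact Or.inr ((inN_split z).2 (Or.inr (Or.inr h)))
    set U : Set V := insert 0 {z | InN z}
    have hU : U.ncard = 113 := by
      rw [Set.ncard_insert_of_notMem (a := (0 : V)) (s := {z | InN z}) (fun h => S.adj_irrefl 0 ((S.adj_zero 0).2 h))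
        (Set.toFinite _), ncard_N]
    have hball : ∀ x ∈ U, insert x {z | Adj G x z} = U := by
      rintro x (rfl | hx)
      · exact congrArg (insert 0) (Set.ext fun z => S.adj_zero z)
      obtain ⟨g, hg, rfl⟩ := (inN_iff x).1 hx
      refine Set.eq_of_subset_of_ncard_le ?_ ?_ (Set.toFinite _)
      · rintro z (rfl | hz)
        · exact Or.inr hx
        · have hz' : g⁻¹ z ∈ T := by
            show Adj G 1 _
            rw [← Setting.adj_map (S.le hg)]
            simpa using hz
          rcases hTN _ hz' with h | h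
          · refine Or.inl ?_
            rw [Equiv.Perm.inv_eq_iff_eq] at h
            rw [h, X_fix hg]
          · exact Or.inr (by simpa using (inN_map hg _).2 h)
      · rw [hU, Set.ncard_insert_of_notMem (s := {z | Adj G (g 1) z}) (S.adj_irrefl (g 1)) (Set.toFinite _),
          show {z | Adj G (g 1) z} = ↑(Setting.out G (g 1)) from Set.ext fun z => by simp [Setting.mem_out],
          Set.ncard_coe_finset, S.card_out]
    let H : Subgroup (Equiv.Perm V) :=
      { carrier := {g | g ∈ G ∧ g '' U = U}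
        one_mem' := ⟨one_mem _, by simp⟩
        mul_mem' := fun {a b} ha hb => ⟨mul_mem ha.1 hb.1, by
          rw [Equiv.Perm.coe_mul, Set.image_comp, hb.2, ha.2]⟩
        inv_mem' := fun {a} ha => ⟨inv_mem ha.1, by
          conv_lhs => rw [← ha.2, ← Set.image_comp]
          simp [Function.comp_def]⟩ }
    have hmove : ∀ g ∈ G, g 0 ∈ U → g ∈ H := by
      intro g hg h0
      refine ⟨hg, ?_⟩
      rw [Set.image_insert_eq]
      refine Eq.trans ?_ (hball _ h0)
      congr 1
      ext z
      constructor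
      · rintro ⟨w, hw, rfl⟩
        exact (Setting.adj_map hg 0 w).2 ((S.adj_zero w).2 hw)
      · intro hz
        refine ⟨g⁻¹ z, ?_, by simp⟩
        show InN _
        rw [← S.adj_zero, ← Setting.adj_map hg]
        simpa using hz
    have horb : orb H 0 = U := by
      refine Set.Subset.antisymm (fun z ⟨g, hg, e⟩ => ?_) fun z hz => ?_
      · rw [← e, ← hg.2]; exact ⟨0, Or.inl rfl, rfl⟩
      · obtain ⟨g, hg, rfl⟩ := S.trans z
        exact ⟨g, hmove g hg hz, rfl⟩
    have e := orb_mul H 0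
    rw [horb, hU, show H ⊓ stabilizer (Equiv.Perm V) (0 : V) = X from
      le_antisymm (fun g hg => (S.stab g hg.1.1).1 hg.2) fun g hg =>
        ⟨hmove g (S.le hg) (by rw [X_fix hg]; exact Or.inl rfl), X_fix hg⟩, card_X] at e
    have hd : Nat.card H ∣ Nat.card G := Subgroup.card_dvd_of_le fun g hg => hg.1
    rw [← e, S.card_G] at hd
    norm_num at hd
  · left
    intro z
    have := key z
    rwa [e30, e81, ea, eb] at this
  · right
    intro z
    have := key z
    rwa [e30, e81, ea, eb] at this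

/-- The possible neighbourhoods of the fourth point among the 162. -/
def selThree (c56 c105 : Bool) (z : ℕ) : Bool := c56 && bitB o56.1 z || c105 && bitB o105.1 z

theorem sel_three : ∀ c56 c105 : Bool, ((List.range 275).filter (selThree c56 c105)).length = 56 →
    c56 = true ∧ c105 = false := by decide +kernel

theorem adjM_symm : ((List.range 275).all fun x => (List.range 275).all fun z =>
    adjOf adjM x z == adjOf adjM z x) = true := by decide +kernel

theorem adj0_symm (x z : V) : Adj0 x z ↔ Adj0 z x := by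
  have h := adjM_symm
  simp only [List.all_eq_true, List.mem_range, beq_iff_eq] at h
  rw [Adj0, Adj0, h x.1 x.2 z.1 z.2]

theorem count_three : ((List.range 275).filter fun z => adjOf adjM 3 z && bitB maskN z).length = 56 ∧
    adjOf adjM 3 0 = false ∧ adjOf adjM 3 3 = false := by decide +kernel

/-- **A group with the first pattern has the graph of the model.** -/
theorem adj_eq {G : Subgroup (Equiv.Perm V)} (S : Setting G)
    (h1 : ∀ z, Adj G 1 z ↔ selOne true false true false z.1 = true) (x y : V) : Adj G x y ↔ Adj0 x y := by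
  classical
  have hmap : ∀ g ∈ X, ∀ a b : V, (Adj0 (g a) (g b) ↔ Adj0 a b) := fun g hg a b => by
    rw [Adj0, Adj0, adj0_P (X_le hg)]
  have b1 : ∀ z, Adj G 1 z ↔ Adj0 1 z := fun z => by
    rw [h1, Adj0, show ((1 : V) : ℕ) = 1 from rfl, (split_facts z).2.2.2.1]
  have b0 : ∀ z, Adj G 0 z ↔ Adj0 0 z := fun z => S.adj_zero z
  have hN3 : ∀ n, InN n → (Adj G 3 n ↔ Adj0 3 n) := fun n hn => by
    obtain ⟨g, hg, rfl⟩ := (inN_iff n).1 hn
    rw [S.adj_symm, adj0_symm, show (3 : V) = g (g⁻¹ 3) by simp, Setting.adj_map (S.le hg), hmap g hg, b1]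
  have b3 : ∀ z, Adj G 3 z ↔ Adj0 3 z := by
    set T : Set V := {z | InM z ∧ Adj G 3 z}
    have hT : ∀ g ∈ L0, ∀ z ∈ T, g z ∈ T := fun g hg z hz => by
      refine ⟨(inM_map (mem_L0.1 hg).1 z).2 hz.1, ?_⟩
      rw [← (mem_L0.1 hg).2]
      exact (Setting.adj_map (S.le (mem_L0.1 hg).1) 3 z).2 hz.2
    have h56 := fun z hz => block o56_orbit hT z hz
    have h105 := fun z hz => block o105_orbit hT z hz
    set c56 := decide (∃ w ∈ setOf' o56.1, w ∈ T)
    set c105 := decide (∃ w ∈ setOf' o105.1, w ∈ T)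
    have key : ∀ z : V, z ∈ T ↔ selThree c56 c105 z.1 = true := by
      intro z
      simp only [selThree, Bool.or_eq_true, Bool.and_eq_true]
      constructor
      · intro hz
        rcases (split_facts z).2.2.1.1 hz.1 with rfl | h | h
        · exact absurd hz.2 (S.adj_irrefl 3)
        · exact Or.inl ⟨(h56 z h).1 hz, h⟩
        · exact Or.inr ⟨(h105 z h).1 hz, h⟩
      · rintro (⟨h, hz⟩ | ⟨h, hz⟩)
        · exact (h56 z hz).2 h
        · exact (h105 z hz).2 h
    have hc : T.ncard = 56 := by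
      have hpart := Set.ncard_inter_add_ncard_diff_eq_ncard (↑(Setting.out G 3) : Set V) {z | InN z} (Set.toFinite _)
      rw [Set.ncard_coe_finset, S.card_out] at hpart
      have e1 : (↑(Setting.out G 3) : Set V) ∩ {z | InN z} = {z : V | (adjOf adjM 3 z.1 && bitB maskN z.1) = true} := by
        ext z
        simp only [Set.mem_inter_iff, Finset.mem_coe, Setting.mem_out, Set.mem_setOf_eq, Bool.and_eq_true]
        exact ⟨fun ⟨a, b⟩ => ⟨(hN3 z b).1 a, b⟩, fun ⟨a, b⟩ => ⟨(hN3 z b).2 a, b⟩⟩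
      have e2 : (↑(Setting.out G 3) : Set V) \ {z | InN z} = T := by
        ext z
        simp only [Set.mem_diff, Finset.mem_coe, Setting.mem_out, Set.mem_setOf_eq, T]
        constructor
        · rintro ⟨a, b⟩
          rcases partition z with ⟨rfl, -, -⟩ | ⟨-, ⟨hn, -⟩ | ⟨hm, -⟩⟩
          · exfalso
            have h3 := (S.adj_symm_zero 3).1 a
            rcases partition 3 with ⟨h, -, -⟩ | ⟨-, ⟨-, h⟩ | ⟨-, h⟩⟩
            · exact absurd h (by decide)
            · exact h inM_three
            · exact h h3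
          · exact absurd hn b
          · exact ⟨hm, a⟩
        · rintro ⟨hm, a⟩
          refine ⟨a, fun hn => ?_⟩
          rcases partition z with ⟨-, h, -⟩ | ⟨-, ⟨-, h⟩ | ⟨-, h⟩⟩
          exacts [h hn, h hm, h hn]
      rw [e1, e2, ncard_bool (fun z => adjOf adjM 3 z && bitB maskN z), count_three.1] at hpart
      omega
    rw [show T = {z : V | selThree c56 c105 z.1 = true} from Set.ext key, ncard_bool] at hc
    obtain ⟨e56, e105⟩ := sel_three _ _ hc
    intro z
    rcases partition z with ⟨rfl, -, -⟩ | ⟨-, ⟨hn, -⟩ | ⟨hm, -⟩⟩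
    · rw [S.adj_symm, S.adj_zero]
      refine iff_of_false (fun h => ?_) (by rw [Adj0]; exact fun h => Bool.noConfusion (count_three.2.1.symm.trans h))
      rcases partition 3 with ⟨h', -, -⟩ | ⟨-, ⟨-, h'⟩ | ⟨-, h'⟩⟩
      · exact absurd h' (by decide)
      · exact h' inM_three
      · exact h' h
    · exact hN3 z hn
    · have := key z
      rw [e56, e105] at this
      simp only [selThree, Bool.true_and, Bool.false_and, Bool.or_false] at this
      exact ⟨fun h => ((split_facts z).2.2.2.2.1.2 (this.1 ⟨hm, h⟩)).2,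
        fun h => (this.2 ((split_facts z).2.2.2.2.1.1 ⟨hm, h⟩)).2⟩
  rcases partition x with ⟨rfl, -, -⟩ | ⟨-, ⟨hn, -⟩ | ⟨hm, -⟩⟩
  · exact b0 y
  · obtain ⟨g, hg, rfl⟩ := (inN_iff x).1 hn
    rw [show y = g (g⁻¹ y) by simp, Setting.adj_map (S.le hg), hmap g hg, b1]
  · obtain ⟨g, hg, rfl⟩ := (inM_iff x).1 hm
    rw [show y = g (g⁻¹ y) by simp, Setting.adj_map (S.le hg), hmap g hg, b3]

end CfsgLib.Spor.McLThree
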