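import Cfsg.Agent.Lib.Spor.McLThree.Graph

/-!
Renaming the points brings the graph of a rank three group to the graph of the model.
-/

set_option autoImplicit false
set_option maxRecDepth 100000

namespace CfsgLib.Spor.McLThree

open MulAction
open CfsgLib.Spor.McLPerm (fixSub pnt P)

/-- The exchanging permutation. -/
def betaP : Equiv.Perm V where
  toFun x := pnt (img betaPerm x.1)
  invFun x := pnt (img betaInv x.1)
  left_inv x := by
    have h := beta_bij
    simp only [betaBij, Bool.and_eq_true, List.all_eq_true, List.mem_range] at h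
    obtain ⟨⟨⟨⟨h1, -⟩, -⟩, h4⟩, -⟩ := h.2 x.1 x.2
    show pnt (img betaInv (pnt (img betaPerm x.1)).1) = x
    rw [pnt_val (Nat.le_of_ble_eq_true h1), Nat.eq_of_beq_eq_true h4]
    exact pnt_self x
  right_inv x := by
    have h := beta_bij
    simp only [betaBij, Bool.and_eq_true, List.all_eq_true, List.mem_range] at h
    obtain ⟨⟨⟨⟨-, h2⟩, h3⟩, -⟩, -⟩ := h.2 x.1 x.2
    show pnt (img betaPerm (pnt (img betaInv x.1)).1) = x
    rw [pnt_val (Nat.le_of_ble_eq_true h2), Nat.eq_of_beq_eq_true h3]
    exact pnt_self x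

theorem betaP_val (x : V) : (betaP x).1 = img betaPerm x.1 := by
  have h := beta_bij
  simp only [betaBij, Bool.and_eq_true, List.all_eq_true, List.mem_range] at h
  exact pnt_val (Nat.le_of_ble_eq_true (h.2 x.1 x.2).1.1.1.1)

theorem betaP_facts : betaP 0 = 0 ∧ betaP 1 = 1 ∧ ∀ x, InN (betaP x) ↔ InN x := by
  have h := beta_bij
  simp only [betaBij, Bool.and_eq_true, List.all_eq_true, List.mem_range, beq_iff_eq] at h
  refine ⟨Fin.ext ((betaP_val 0).trans (Nat.eq_of_beq_eq_true h.1.1)),
    Fin.ext ((betaP_val 1).trans (Nat.eq_of_beq_eq_true h.1.2)), fun x => ?_⟩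
  rw [InN, InN, betaP_val, ← (h.2 x.1 x.2).2]

/-- The exchanging permutation normalises the stabilizer. -/
theorem beta_normal : X.map (MulAut.conj betaP).toMonoidHom = X := by
  haveI := finite_X
  refine Subgroup.eq_of_le_of_card_ge ?_ (by rw [Subgroup.card_map_of_injective (MulAut.conj betaP).injective])
  rintro _ ⟨g, hg, rfl⟩
  obtain ⟨p, hp, dp⟩ := decB hg
  have hflat := forall2_flat hp
  clear hp
  revert g
  induction p with
  | nil =>
    intro g _ dp
    obtain rfl : g = 1 := Equiv.ext fun q => Fin.ext (dp q)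
    rw [map_one]; exact one_mem _
  | cons a p ih =>
    intro g hg dp
    obtain ⟨l, hl, hal⟩ := List.mem_flatMap.1 (hflat a List.mem_cons_self)
    simp only [lvB, levels, List.mem_map] at hl
    obtain ⟨l', hl', rfl⟩ := hl
    obtain ⟨e, he, hea⟩ := List.mem_map.1 hal
    have hef : e ∈ flat chainB := List.mem_flatMap.2 ⟨l', hl', he⟩
    obtain ⟨x, hx, dx⟩ := exists_pk (List.all_eq_true.1 pkB_ok e hef)
    rw [hea] at dx
    obtain ⟨k, hk, hke⟩ := List.getElem_of_mem hef
    have hc := beta_conj
    simp only [conjOK, Bool.and_eq_true, List.all_eq_true, List.mem_range, Bool.or_eq_true,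
      Bool.not_eq_true'] at hc
    obtain ⟨⟨hlen, hok⟩, hrel⟩ := hc
    have hk' : k < betaImg.length := by rw [Nat.eq_of_beq_eq_true hlen]; exact hk
    obtain ⟨x', hx', dx'⟩ := exists_word (betaImg.getD k [])
      (by rw [List.getD_eq_getElem _ _ hk']; exact hok _ (List.getElem_mem hk'))
    have hxe : (MulAut.conj betaP).toMonoidHom x = x' := by
      refine Equiv.ext fun q => Fin.ext ?_
      obtain ⟨z, rfl⟩ := betaP.surjective q
      show ((betaP * x * betaP⁻¹) (betaP z)).1 = _
      have hz := (hrel k hk z.1 z.2).resolve_left (by simp)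
      rw [List.getD_eq_getElem _ _ hk, hke, hea] at hz
      rw [Equiv.Perm.mul_apply, Equiv.Perm.mul_apply, show betaP⁻¹ (betaP z) = z from betaP.symm_apply_apply z,
        betaP_val, dx, dx', betaP_val, Nat.eq_of_beq_eq_true hz]
    have hrest := ih (fun b hb => hflat b (List.mem_cons_of_mem _ hb)) (g := x⁻¹ * g)
      (mul_mem (inv_mem hx) hg) (fun i => by
        have h1 : ev p i.1 < 275 := by
          refine rel_exists.ev_lt p (fun b hb z hz => ?_) i.1 i.2
          obtain ⟨l1, hl1, hb1⟩ := List.mem_flatMap.1 (hflat b (List.mem_cons_of_mem _ hb))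
          obtain ⟨y, -, dy⟩ := memB l1 hl1 b hb1
          rw [← dy.app hz]; exact (y (pnt z)).2
        have h2 : x ⟨ev p i.1, h1⟩ = g i := Fin.ext (by rw [dx, dp i]; rfl)
        rw [Equiv.Perm.mul_apply, ← h2]
        simp)
    have := mul_mem (hxe ▸ hx' : (MulAut.conj betaP).toMonoidHom x ∈ X) hrest
    rwa [← map_mul, mul_inv_cancel_left] at this

/-- **Up to renaming, a rank three group has the graph of the model.** -/
theorem exists_setting {G : Subgroup (Equiv.Perm V)} (S : Setting G) :
    ∃ G' : Subgroup (Equiv.Perm V), Nonempty (↥G ≃* ↥G') ∧ Nat.card G' = 275 * 3265920 ∧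
      ∀ g ∈ G', ∀ x y : V, Adj0 (g x) (g y) ↔ Adj0 x y := by
  classical
  rcases pattern S with h | h
  · exact ⟨G, ⟨MulEquiv.refl _⟩, S.card_G, fun g hg x y => by
      rw [← adj_eq S h, ← adj_eq S h, Setting.adj_map hg]⟩
  set c := (MulAut.conj betaP).toMonoidHom
  set G' := G.map c with hG'
  have hc : ∀ g q, c g (betaP q) = betaP (g q) := fun g q => by
    show (betaP * g * betaP⁻¹) (betaP q) = _
    simp
  have S' : Setting G' := by
    refine ⟨fun q => ?_, ?_, ?_⟩
    · obtain ⟨g, hg, e⟩ := S.trans (betaP⁻¹ q)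
      refine ⟨c g, ⟨g, hg, rfl⟩, ?_⟩
      conv_lhs => rw [← betaP_facts.1]
      rw [hc, e]; simp
    · rintro _ ⟨g, hg, rfl⟩
      have e0 : c g 0 = betaP (g 0) := by
        conv_lhs => rw [← betaP_facts.1]
        rw [hc]
      rw [e0]
      constructor
      · intro h0
        rw [← beta_normal]
        exact ⟨g, (S.stab g hg).1 (betaP.injective (h0.trans betaP_facts.1.symm)), rfl⟩
      · intro hx
        rw [← beta_normal] at hx
        obtain ⟨g', hg', e⟩ := hx
        rw [(MulAut.conj betaP).injective e] at hg'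
        rw [(S.stab g hg).2 hg', betaP_facts.1]
    · rw [← beta_normal]
      exact Subgroup.map_mono S.le
  have hadj : ∀ x y, Adj G x y → Adj G' (betaP x) (betaP y) := by
    rintro x y ⟨g, hg, h0, hy⟩
    refine ⟨c g, ⟨g, hg, rfl⟩, ?_, ?_⟩
    · conv_lhs => rw [← betaP_facts.1]
      rw [hc, h0]
    · have e : (c g)⁻¹ (betaP y) = betaP (g⁻¹ y) := by
        rw [Equiv.Perm.inv_eq_iff_eq, hc]; simp
      rw [e, betaP_facts.2.2]
      exact hy
  have h' : ∀ z, Adj G' 1 z ↔ selOne true false true false z.1 = true := by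
    rcases pattern S' with h' | h'
    · exact h'
    · exfalso
      obtain ⟨z, hz⟩ : ∃ z, z ∈ setOf' o81b.1 := by
        refine Set.nonempty_of_ncard_ne_zero ?_
        rw [ncard_setOf', sizes.2.2.2.1]; norm_num
      have h1 := hadj 1 z ((h z).2 (by simp [selOne, show bitB o81b.1 z.1 = true from hz]))
      rw [betaP_facts.2.1, h'] at h1
      have ha : betaP z ∈ setOf' o81a.1 := by
        have := (split_facts z).2.2.2.2.2 hz
        exact this
      have hM : InM (betaP z) := (split_facts _).2.1.2 (Or.inl ha)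
      simp only [selOne, Bool.true_and, Bool.false_and, Bool.or_false, Bool.or_eq_true] at h1
      rcases h1 with (h1 | h1) | h1
      · have e0 : betaP z = 0 := Fin.ext (Nat.eq_of_beq_eq_true h1)
        rcases partition (betaP z) with ⟨-, -, hm⟩ | ⟨hne, -⟩
        · exact hm hM
        · exact hne e0
      · rcases partition (betaP z) with ⟨-, -, hm⟩ | ⟨-, ⟨-, hm⟩ | ⟨-, hn⟩⟩
        · exact hm hM
        · exact hm hM
        · exact hn ((inN_split _).2 (Or.inr (Or.inl h1)))
      · exact disjoint_ab _ ⟨ha, h1⟩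
  refine ⟨G', ⟨G.equivMapOfInjective c (MulAut.conj betaP).injective⟩, S'.card_G, fun g hg x y => ?_⟩
  rw [← adj_eq S' h', ← adj_eq S' h', Setting.adj_map hg]

end CfsgLib.Spor.McLThree
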