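import Cfsg.Agent.Lib.Spor.McLThree.Searches

/-!
A subgroup of index 162 of the stabilizer fixes one of the 162 points, up to an automorphism of the stabilizer.
-/

set_option autoImplicit false
set_option maxRecDepth 100000

namespace CfsgLib.Spor.McLThree

open MulAction
open CfsgLib.Spor.McLPerm (fixSub pnt P)

theorem tree_mem (H : Subgroup (Equiv.Perm V)) {gs : List ℕ} (hgs : ∀ s < gs.length, ∃ x ∈ H, Does x (img (gs.getD s 0)))
    {part : List ℕ} {ps : List (ℕ × ℕ)} (h : treeOK gs part ps = true) :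
    ∀ z ∈ part, z < 275 ∧ pnt z ∈ orb H (pnt (part.getD 0 0)) := by
  simp only [treeOK, Bool.and_eq_true, List.all_eq_true, List.mem_range, Bool.or_eq_true] at h
  obtain ⟨hlt, hstep⟩ := h
  have hk : ∀ k < part.length, pnt (part.getD k 0) ∈ orb H (pnt (part.getD 0 0)) := by
    intro k
    induction k using Nat.strong_induction_on with
    | _ k ih =>
      intro hk
      rcases hstep k hk with h0 | ⟨⟨hp, hs⟩, he⟩
      · rw [Nat.eq_of_beq_eq_true h0]; exact mem_orb_self _ _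
      · have hp' : (ps.getD k (0, 0)).1 < k := Nat.le_of_ble_eq_true hp
        have hm := ih _ hp' (by omega)
        obtain ⟨x, hx, dx⟩ := hgs _ (Nat.le_of_ble_eq_true hs)
        have hlt' : part.getD (ps.getD k (0, 0)).1 0 < 275 := by
          rw [List.getD_eq_getElem _ _ (by omega)]
          exact Nat.le_of_ble_eq_true (hlt _ (List.getElem_mem _))
        have e : x (pnt (part.getD (ps.getD k (0, 0)).1 0)) = pnt (part.getD k 0) := Fin.ext (by
          rw [dx.app hlt', Nat.eq_of_beq_eq_true he, pnt_val]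
          rw [List.getD_eq_getElem _ _ hk]
          exact Nat.le_of_ble_eq_true (hlt _ (List.getElem_mem _)))
        rw [← e]
        exact orb_map hx hm
  intro z hz
  obtain ⟨k, hk', rfl⟩ := List.getElem_of_mem hz
  refine ⟨Nat.le_of_ble_eq_true (hlt _ hz), ?_⟩
  rw [← List.getD_eq_getElem _ 0 hk']
  exact hk k hk'

theorem ncard_list {l : List ℕ} (hn : l.Nodup) (hl : ∀ z ∈ l, z < 275) : {v : V | v.1 ∈ l}.ncard = l.length := by
  classical
  rw [← List.toFinset_card_of_nodup hn, ← Set.ncard_coe_finset, ← Set.ncard_image_of_injective _ Fin.val_injective]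
  congr 1
  ext c
  simp only [Set.mem_image, Set.mem_setOf_eq, List.coe_toFinset]
  exact ⟨fun ⟨v, hv, e⟩ => e ▸ hv, fun hc => ⟨⟨c, hl c hc⟩, hc, rfl⟩⟩

/-- The first part of a case. -/
def part0 (c : ℕ) : List ℕ := ((kinds.getD c (0, [])).2.getD 0 ([], [])).1

theorem first_orbit {c : ℕ} (hc : c < 13) (H : Subgroup (Equiv.Perm V)) (hH : H ≤ X) (hcard : Nat.card H = 20160)
    (hgs : ∀ s < (caseGens c).length, ∃ x ∈ H, Does x (img ((caseGens c).getD s 0))) :
    InM (pnt ((part0 c).getD 0 0)) ∧ orb H (pnt ((part0 c).getD 0 0)) = {v : V | v.1 ∈ part0 c} ∧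
      (part0 c).length ∣ 20160 ∧ {v : V | v.1 ∈ part0 c}.ncard = (part0 c).length := by
  classical
  have h := cases_ok
  rw [List.all_eq_true] at h
  have h := h c (List.mem_range.2 hc)
  rw [part0]
  set ps := (kinds.getD c (0, [])).2 with hps
  simp only [caseOK, Bool.and_eq_true, List.all_eq_true, List.mem_range, decide_eq_true_eq, Bool.or_eq_true,
    Bool.not_eq_true', List.any_eq_true, ← hps] at h
  obtain ⟨⟨⟨⟨htree, hnd⟩, hallM⟩, hcover⟩, honly⟩ := h
  rcases hcas : ps with _ | ⟨q0, rest⟩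
  · exfalso
    obtain ⟨z, hz, -⟩ := (hcover 3 (by norm_num)).resolve_left (by decide +kernel)
    rw [hcas] at hz; cases hz
  rw [hcas] at htree hnd hallM hcover honly
  simp only [List.getD_cons_zero, List.drop_succ_cons, List.drop_zero] at honly ⊢
  set r := q0.1.getD 0 0
  have hq : ∀ q ∈ q0 :: rest, ∀ z ∈ q.1, z < 275 ∧ pnt z ∈ orb H (pnt (q.1.getD 0 0)) := fun q hq =>
    tree_mem H hgs (htree q hq).1
  have hr : r ∈ q0.1 := by
    rcases hq0 : q0.1 with _ | ⟨a, l⟩
    · have := (htree q0 List.mem_cons_self).2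
      rw [hq0] at this; exact absurd this (by decide)
    · simp [r, hq0]
  have hr' : r < 275 := (hq q0 List.mem_cons_self r hr).1
  have hrM : InM (pnt r) := by
    rw [InM, pnt_val hr']
    exact hallM r (List.mem_flatMap.2 ⟨q0, List.mem_cons_self, hr⟩)
  set O := orb H (pnt r) with hO
  set sel := (rest.filter fun q => decide (pnt (q.1.getD 0 0) ∈ O)) with hsel
  have hOeq : O = {v : V | v.1 ∈ q0.1 ++ sel.flatMap Prod.fst} := by
    ext v
    simp only [Set.mem_setOf_eq, List.mem_append, List.mem_flatMap]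
    constructor
    · intro hv
      have hvM : InM v := by
        obtain ⟨g, hg, rfl⟩ := hv
        exact (inM_map (hH hg) _).2 hrM
      obtain ⟨z, hz, hzv⟩ := (hcover v.1 v.2).resolve_left (by rw [show inMB v.1 = true from hvM]; decide)
      obtain ⟨q, hq', hzq⟩ := List.mem_flatMap.1 hz
      have ez : v.1 = z := Nat.eq_of_beq_eq_true hzv
      rcases List.mem_cons.1 hq' with rfl | hq''
      · exact Or.inl (ez ▸ hzq)
      · refine Or.inr ⟨q, List.mem_filter.2 ⟨hq'', decide_eq_true ?_⟩, ez ▸ hzq⟩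
        have hzo := (hq q hq' z hzq).2
        rw [show pnt z = v by rw [← ez]; exact pnt_self v] at hzo
        rw [hO, ← orb_eq hv, orb_eq hzo]
        exact mem_orb_self _ _
    · rintro (hv | ⟨q, hq', hvq⟩)
      · have := (hq q0 List.mem_cons_self v.1 hv).2
        rwa [pnt_self] at this
      · obtain ⟨hq1, hq2⟩ := List.mem_filter.1 hq'
        have := (hq q (List.mem_cons_of_mem _ hq1) v.1 hvq).2
        rw [pnt_self, orb_eq (of_decide_eq_true hq2)] at this
        exact this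
  have hsub : (q0.1 ++ sel.flatMap Prod.fst).Sublist ((q0 :: rest).flatMap Prod.fst) := by
    rw [List.flatMap_cons]
    exact List.Sublist.append (List.Sublist.refl _)
      ((List.filter_sublist (l := rest)).map _).flatten
  have hnd' := hnd.sublist hsub
  have hlt : ∀ z ∈ q0.1 ++ sel.flatMap Prod.fst, z < 275 := fun z hz => by
    obtain ⟨q, hq', hzq⟩ := List.mem_flatMap.1 (hsub.subset hz)
    exact (hq q hq' z hzq).1
  have hOc : O.ncard = q0.1.length + (sel.map fun q => q.1.length).sum := by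
    rw [hOeq, ncard_list hnd' hlt, List.length_append, List.length_flatMap]
  have hdvd : O.ncard ∣ 20160 := hcard ▸ orb_dvd H _
  have hnil : sel = [] := by
    simp only [onlyFirst, List.all_eq_true, Bool.or_eq_true, Bool.not_eq_true'] at honly
    rcases honly (sel.map Prod.fst) (List.mem_sublists.2 ((List.filter_sublist (l := rest)).map _)) with h | h
    · simpa using h
    · exfalso
      rw [List.map_map, show (List.length ∘ Prod.fst) = (fun q : List ℕ × List (ℕ × ℕ) => q.1.length) from rfl,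
        ← hOc, Nat.mod_eq_zero_of_dvd hdvd, Nat.beq_refl] at h
      exact Bool.noConfusion h
  rw [hnil] at hOeq hOc
  simp only [List.flatMap_nil, List.append_nil] at hOeq
  simp only [List.map_nil, List.sum_nil, add_zero] at hOc
  exact ⟨hrM, hOeq, hOc ▸ hdvd, hOeq ▸ hOc⟩

theorem kind_cases {c : ℕ} (hc : c < 13) :
    ((kinds.getD c (0, [])).1 = 0 ∧ ¬ (part0 c).length ∣ 20160) ∨
    (((kinds.getD c (0, [])).1 = 1 ∨ (kinds.getD c (0, [])).1 = 2) ∧ (part0 c).length = 1) ∨
    ((kinds.getD c (0, [])).1 = 3 ∧ (part0 c).length = 36 ∧ c = u3Fix.1) ∨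
    ((kinds.getD c (0, [])).1 = 4 ∧ (part0 c).length = 42 ∧ ∃ s ∈ sevens, s.1 = c) := by
  have h := kinds_ok
  simp only [List.all_eq_true, List.mem_range, Bool.or_eq_true, Bool.and_eq_true, Bool.not_eq_true',
    List.any_eq_true] at h
  rcases h c hc with ((⟨h1, h2⟩ | ⟨h1, h2⟩) | ⟨⟨h1, h2⟩, h3⟩) | ⟨⟨h1, h2⟩, s, hs, h3⟩
  · refine Or.inl ⟨Nat.eq_of_beq_eq_true h1, fun hd => ?_⟩
    change Nat.beq (20160 % (part0 c).length) 0 = false at h2
    rw [Nat.mod_eq_zero_of_dvd hd, Nat.beq_refl] at h2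
    exact Bool.noConfusion h2
  · exact Or.inr (Or.inl ⟨h1.imp Nat.eq_of_beq_eq_true Nat.eq_of_beq_eq_true, Nat.eq_of_beq_eq_true h2⟩)
  · exact Or.inr (Or.inr (Or.inl ⟨Nat.eq_of_beq_eq_true h1, Nat.eq_of_beq_eq_true h2, Nat.eq_of_beq_eq_true h3⟩))
  · exact Or.inr (Or.inr (Or.inr ⟨Nat.eq_of_beq_eq_true h1, Nat.eq_of_beq_eq_true h2, s, hs,
      Nat.eq_of_beq_eq_true h3⟩))

theorem not_kind3 (H : Subgroup (Equiv.Perm V)) (hH : H ≤ X) (hcard : Nat.card H = 20160)
    (hgs : ∀ s < (caseGens u3Fix.1).length, ∃ x ∈ H, Does x (img ((caseGens u3Fix.1).getD s 0)))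
    (h36 : (part0 u3Fix.1).length = 36) : False := by
  obtain ⟨hk, hcube, hne, hw, hwlt⟩ := u3_ok
  obtain ⟨-, hO, -, hn⟩ := first_orbit (c := u3Fix.1) (by decide +kernel) H hH hcard hgs
  set w := pnt ((part0 u3Fix.1).getD 0 0)
  have e := orb_mul H w
  rw [hO, hn, h36, hcard] at e
  have key : ∀ l : List ℕ, (∀ s ∈ l, s < (caseGens u3Fix.1).length) →
      ∃ x ∈ H, Does x (ev (l.map fun s => (caseGens u3Fix.1).getD s 0)) := by
    intro l
    induction l with
    | nil => exact fun _ => ⟨1, one_mem _, Does.one⟩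
    | cons s l ih =>
      intro hl
      obtain ⟨x, hx, dx⟩ := hgs s (hl s List.mem_cons_self)
      obtain ⟨g, hg, dg⟩ := ih fun t ht => hl t (List.mem_cons_of_mem _ ht)
      exact ⟨x * g, mul_mem hx hg, fun i => by rw [Equiv.Perm.mul_apply, dx, dg]; rfl⟩
  obtain ⟨x, hx, dx⟩ := key u3Fix.2 fun s hs => Nat.le_of_ble_eq_true (List.all_eq_true.1 hk s hs)
  haveI : Fact (Nat.Prime 3) := ⟨Nat.prime_three⟩
  have ho : orderOf (⟨x, hH hx⟩ : ↥X) = 3 := orderOf_eq_prime (eq_one_of_agree (g := ⟨x, hH hx⟩ ^ 3) (dx.pow 3) hcube)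
    (ne_one_of_agree (g := ⟨x, hH hx⟩) dx hne)
  have hxs : x ∈ H ⊓ stabilizer (Equiv.Perm V) w := ⟨hx, Fin.ext (by
    show (x w).1 = w.1
    refine (dx.app (b := (part0 u3Fix.1).getD 0 0) hwlt).trans ?_
    rw [show w.1 = (part0 u3Fix.1).getD 0 0 from pnt_val hwlt]
    exact hw)⟩
  have hd : orderOf x ∣ Nat.card ↥(H ⊓ stabilizer (Equiv.Perm V) w) := by
    rw [← Subgroup.orderOf_mk x hxs]; exact orderOf_dvd_natCard _
  rw [← Subgroup.orderOf_mk x (hH hx), ho, show Nat.card ↥(H ⊓ stabilizer (Equiv.Perm V) w) = 560 by omega] at hd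
  norm_num at hd

theorem not_kind4 {c : ℕ} (hc : c < 13) (H : Subgroup (Equiv.Perm V)) (hH : H ≤ X) (hcard : Nat.card H = 20160)
    (hgs : ∀ s < (caseGens c).length, ∃ x ∈ H, Does x (img ((caseGens c).getD s 0)))
    (hs : ∃ s ∈ sevens, s.1 = c) : False := by
  classical
  obtain ⟨s, hsm, rfl⟩ := hs
  obtain ⟨-, hO, -, -⟩ := first_orbit hc H hH hcard hgs
  have h := sevens_ok
  simp only [List.all_eq_true, Bool.and_eq_true, List.mem_range, beq_iff_eq, decide_eq_true_eq] at h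
  obtain ⟨⟨⟨htree, hnd⟩, h7⟩, hiff⟩ := h s hsm
  have hmem := tree_mem H hgs htree
  have hinv : ∀ g ∈ H, ∀ v : V, v.1 ∈ part0 s.1 → (g v).1 ∈ part0 s.1 := fun g hg v hv => by
    have hv' : v ∈ orb H (pnt ((part0 s.1).getD 0 0)) := by rw [hO]; exact hv
    have := orb_map hg hv'
    rw [hO] at this
    exact this
  have hnd0 : (part0 s.1).Nodup := by
    have h := cases_ok
    rw [List.all_eq_true] at h
    have h := h s.1 (List.mem_range.2 hc)
    simp only [caseOK, Bool.and_eq_true, decide_eq_true_eq] at h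
    rcases hcas : (kinds.getD s.1 (0, [])).2 with _ | ⟨q0, rest⟩
    · rw [part0, hcas]; exact List.nodup_nil
    · rw [part0, hcas]
      rw [hcas, List.flatMap_cons] at h
      exact (List.nodup_append.1 h.1.1.1.2).1
  have hlt0 : ∀ q ∈ part0 s.1, q < 275 := fun q hq => by
    have h := cases_ok
    rw [List.all_eq_true] at h
    have h := h s.1 (List.mem_range.2 hc)
    simp only [caseOK, Bool.and_eq_true, List.all_eq_true] at h
    rcases hcas : (kinds.getD s.1 (0, [])).2 with _ | ⟨q0, rest⟩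
    · rw [part0, hcas] at hq; cases hq
    · rw [part0, hcas] at hq
      exact (tree_mem H hgs (h.1.1.1.1 q0 (by rw [hcas]; exact List.mem_cons_self)).1 q hq).1
  let cnt : V → ℕ := fun z => (part0 s.1).countP fun q => adjOf adjM q z.1
  have hcnt : ∀ z : V, cnt z = {v : V | v.1 ∈ part0 s.1 ∧ Adj0 v z}.ncard := fun z => by
    have e := ncard_list (hnd0.filter (fun q => adjOf adjM q z.1))
      (fun q hq => hlt0 q (List.mem_of_mem_filter hq))
    rw [← List.countP_eq_length_filter] at e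
    refine e.symm.trans (congrArg Set.ncard (Set.ext fun v => ?_))
    simp [List.mem_filter, Adj0]
  have hinvc : ∀ g ∈ H, ∀ z : V, cnt (g z) = cnt z := fun g hg z => by
    rw [hcnt, hcnt, ← Set.ncard_image_of_injective {v : V | v.1 ∈ part0 s.1 ∧ Adj0 v z} g.injective]
    congr 1
    ext v
    simp only [Set.mem_image, Set.mem_setOf_eq]
    constructor
    · intro ⟨h1, h2⟩
      refine ⟨g⁻¹ v, ⟨hinv _ (inv_mem hg) v h1, ?_⟩, by simp⟩
      rw [Adj0, ← adj0_P (X_le (hH hg))]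
      simpa [Adj0] using h2
    · rintro ⟨v, ⟨h1, h2⟩, rfl⟩
      exact ⟨hinv g hg v h1, by rw [Adj0, adj0_P (X_le (hH hg))]; exact h2⟩
  have hseven : ∀ z : V, z.1 ∈ s.2.2.1 ↔ InN z ∧ cnt z = s.2.1 := fun z => by
    have h := hiff z.1 z.2
    constructor
    · intro hz
      rw [show (s.2.2.1.any (Nat.beq z.1)) = true from List.any_eq_true.2 ⟨_, hz, Nat.beq_refl _⟩,
        Bool.and_eq_true] at h
      exact ⟨h.1, Nat.eq_of_beq_eq_true h.2⟩
    · rintro ⟨h1, h2⟩
      rw [show bitB maskN z.1 = true from h1, Bool.true_and] at h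
      change Nat.beq (cnt z) s.2.1 = _ at h
      rw [h2, Nat.beq_refl] at h
      obtain ⟨q, hq, e⟩ := List.any_eq_true.1 h.symm
      rwa [Nat.eq_of_beq_eq_true e]
  have hlen := Nat.eq_of_beq_eq_true h7
  set v0 := pnt (s.2.2.1.getD 0 0)
  have hv0 : v0.1 ∈ s.2.2.1 := by
    have h0 : s.2.2.1.getD 0 0 ∈ s.2.2.1 := by
      rw [List.getD_eq_getElem _ _ (by omega)]; exact List.getElem_mem _
    rw [show v0.1 = _ from pnt_val (hmem _ h0).1]
    exact h0
  have heq : orb H v0 = {v : V | v.1 ∈ s.2.2.1} := by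
    refine Set.Subset.antisymm ?_ fun v hv => by
      have := (hmem v.1 hv).2
      rwa [pnt_self] at this
    rintro _ ⟨g, hg, rfl⟩
    obtain ⟨h1, h2⟩ := (hseven v0).1 hv0
    exact (hseven _).2 ⟨(inN_map (hH hg) v0).2 h1, (hinvc g hg v0).trans h2⟩
  have e := orb_mul H v0
  rw [heq, ncard_list hnd (fun q hq => (hmem q hq).1), hlen, hcard] at e
  have hN0 := ((hseven v0).1 hv0).1
  have e2 := orb_mul X v0
  rw [card_X, show orb X v0 = {v : V | InN v} from Set.ext fun v => by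
      obtain ⟨g0, hg0, e0⟩ := (inN_iff v0).1 hN0
      rw [Set.mem_setOf_eq, inN_iff, ← e0]
      exact ⟨fun ⟨g, hg, e⟩ => ⟨g * g0, mul_mem hg hg0, e⟩,
        fun ⟨g, hg, e⟩ => ⟨g * g0⁻¹, mul_mem hg (inv_mem hg0), by simpa using e⟩⟩, ncard_N] at e2
  have hd := Subgroup.card_dvd_of_le (sub_stab_le' hH v0)
  rw [show Nat.card ↥(H ⊓ stabilizer (Equiv.Perm V) v0) = 2880 by omega,
    show Nat.card ↥(X ⊓ stabilizer (Equiv.Perm V) v0) = 29160 by omega] at hd
  norm_num at hd
where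
  sub_stab_le' {A B : Subgroup (Equiv.Perm V)} (h : A ≤ B) (v : V) :
    A ⊓ stabilizer (Equiv.Perm V) v ≤ B ⊓ stabilizer (Equiv.Perm V) v := inf_le_inf_right _ h

theorem card_sub (L : Subgroup ↥X) : Nat.card ↥(L.map X.subtype) = Nat.card L :=
  Subgroup.card_map_of_injective X.subtype_injective

theorem gens3 {L : Subgroup ↥X} {a b c : ℕ} {x y z : ↥X} (hx : x ∈ L) (hy : y ∈ L) (hz : z ∈ L)
    (dx : Does x.1 (img a)) (dy : Does y.1 (img b)) (dz : Does z.1 (img c)) :
    ∀ s < [a, b, c].length, ∃ g ∈ L.map X.subtype, Does g (img ([a, b, c].getD s 0)) := by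
  intro s hs
  rcases s with _ | _ | _ | s
  · exact ⟨_, ⟨x, hx, rfl⟩, dx⟩
  · exact ⟨_, ⟨y, hy, rfl⟩, dy⟩
  · exact ⟨_, ⟨z, hz, rfl⟩, dz⟩
  · simp only [List.length_cons, List.length_nil] at hs; omega

theorem alpha_el {c : ℕ} (hc : c < 13) (h2 : (kinds.getD c (0, [])).1 = 2) {k : ℕ} (hk : k < 3) {x : ↥X}
    (dx : Does x.1 (img ([yE.1, tE.1, (uE.getD c (0, [])).1].getD k 0))) :
    Does (alpha x).1 (img (([alphaH.getD 0 (0, []), alphaH.getD 1 (0, []), alphaH.getD 2 (0, [])].getD k (0, [])).1)) := by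
  set e := [alphaH.getD 0 (0, []), alphaH.getD 1 (0, []), alphaH.getD 2 (0, [])].getD k (0, []) with he
  have hlen : alphaH.length = 3 := by decide +kernel
  have hmem : e ∈ [yE, tE] ++ uE ++ alphaH := by
    refine List.mem_append_right _ ?_
    rw [he]
    rcases k with _ | _ | _ | k
    · show alphaH.getD 0 (0, []) ∈ alphaH
      rw [List.getD_eq_getElem _ _ (by omega)]; exact List.getElem_mem _
    · show alphaH.getD 1 (0, []) ∈ alphaH
      rw [List.getD_eq_getElem _ _ (by omega)]; exact List.getElem_mem _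
    · show alphaH.getD 2 (0, []) ∈ alphaH
      rw [List.getD_eq_getElem _ _ (by omega)]; exact List.getElem_mem _
    · omega
  have h := alphaH_ok
  simp only [List.all_eq_true, List.mem_range, Bool.or_eq_true, Bool.not_eq_true'] at h
  have h := (h c hc).resolve_left (by rw [h2]; decide) k hk
  rw [rel_unique (alpha x).2 (el e hmem).2 (alpha_rel x) fun q hq => Fin.ext ?_]
  · exact does_el e hmem
  rw [does_el e hmem, (sig_facts q).1, (sig_facts _).1, dx q]
  exact Nat.eq_of_beq_eq_true ((h q.1 q.2).resolve_left (by rw [show bitB maskN q.1 = true from hq]; decide))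

theorem stab_normal_M (L : Subgroup ↥X) (hc : Nat.card L = 20160) (hy : yX ∈ L) (ht : tX ∈ L)
    {c : ℕ} (hc13 : c < 13) {z : ↥X} (hz : z ∈ L) (dz : Does z.1 (img (uE.getD c (0, [])).1)) :
    ∃ (β : ↥X ≃* ↥X) (m : V), InM m ∧ ∀ x ∈ L, (β x).1 m = m := by
  obtain ⟨β, hgs, hkind⟩ : ∃ β : ↥X ≃* ↥X, (∀ s < (caseGens c).length,
      ∃ g ∈ (L.map β.toMonoidHom).map X.subtype, Does g (img ((caseGens c).getD s 0))) ∧ True := by
    by_cases h2 : (kinds.getD c (0, [])).1 = 2
    · refine ⟨alpha, ?_, trivial⟩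
      have e : caseGens c = [(alphaH.getD 0 (0, [])).1, (alphaH.getD 1 (0, [])).1, (alphaH.getD 2 (0, [])).1] := by
        rw [caseGens, h2, if_pos (Nat.beq_refl 2)]
        decide +kernel
      rw [e]
      exact gens3 ⟨yX, hy, rfl⟩ ⟨tX, ht, rfl⟩ ⟨z, hz, rfl⟩ (alpha_el hc13 h2 (k := 0) (by norm_num) does_y)
        (alpha_el hc13 h2 (k := 1) (by norm_num) does_t) (alpha_el hc13 h2 (k := 2) (by norm_num) dz)
    · refine ⟨MulEquiv.refl _, ?_, trivial⟩
      have e : caseGens c = [yE.1, tE.1, (uE.getD c (0, [])).1] := by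
        rw [caseGens, if_neg]
        exact fun h => h2 (Nat.eq_of_beq_eq_true h)
      rw [e]
      exact gens3 ⟨yX, hy, rfl⟩ ⟨tX, ht, rfl⟩ ⟨z, hz, rfl⟩ does_y does_t dz
  set H := (L.map β.toMonoidHom).map X.subtype
  have hH : H ≤ X := Subgroup.map_subtype_le _
  have hHc : Nat.card H = 20160 := by
    rw [card_sub, Subgroup.card_map_of_injective β.injective, hc]
  obtain ⟨hM, hO, hdvd, hn⟩ := first_orbit hc13 H hH hHc hgs
  rcases kind_cases hc13 with ⟨-, h⟩ | ⟨-, h1⟩ | ⟨-, h36, rfl⟩ | ⟨-, -, hs⟩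
  · exact absurd hdvd h
  · refine ⟨β, _, hM, fun x hx => ?_⟩
    rw [h1] at hn
    rw [← hO] at hn
    exact (Set.ncard_le_one_iff (Set.toFinite _)).1 hn.le ⟨_, ⟨β x, ⟨x, hx, rfl⟩, rfl⟩, rfl⟩ (mem_orb_self _ _)
  · exact (not_kind3 H hH hHc hgs h36).elim
  · exact (not_kind4 hc13 H hH hHc hgs hs).elim

theorem sylow7_card (P : Sylow 7 ↥X) {z : ↥X} (hz : orderOf z = 7) (hle : Subgroup.zpowers z ≤ P) :
    Subgroup.zpowers z = P := by
  haveI : Fact (Nat.Prime 7) := ⟨by norm_num⟩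
  haveI := finite_X
  refine Subgroup.eq_of_le_of_card_ge hle ?_
  obtain ⟨k, hk⟩ := IsPGroup.iff_card.1 P.2
  rw [Nat.card_zpowers, hz, hk]
  have hd : 7 ^ k ∣ 3265920 := hk ▸ card_X ▸ Subgroup.card_subgroup_dvd_card (P : Subgroup ↥X)
  rcases Nat.lt_or_ge k 2 with h | h
  · interval_cases k <;> norm_num
  · exact absurd ((pow_dvd_pow 7 h).trans hd) (by norm_num)

theorem conj_pow_of_normalizer {L : Subgroup ↥X} (hy : yX ∈ L) {g : ↥L}
    (hg : g ∈ Subgroup.normalizer ((Subgroup.zpowers (⟨yX, hy⟩ : ↥L) : Subgroup ↥L) : Set ↥L)) : ∃ k : ℕ, g.1 * yX * g.1⁻¹ = yX ^ k := by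
  haveI := finite_X
  have h := (Subgroup.mem_normalizer_iff.1 hg ⟨yX, hy⟩).1 (Subgroup.mem_zpowers _)
  obtain ⟨k, hk⟩ := (mem_powers_iff_mem_zpowers).2 h
  exact ⟨k, (congrArg Subtype.val hk).symm⟩

/-- A subgroup of order 20160 containing the element of order seven contains the one of order three. -/
theorem t_mem (L : Subgroup ↥X) (hc : Nat.card L = 20160) (hy : yX ∈ L) : tX ∈ L := by
  classical
  haveI : Fact (Nat.Prime 7) := ⟨by norm_num⟩
  haveI := finite_X
  set y' : ↥L := ⟨yX, hy⟩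
  have hy' : orderOf y' = 7 := (Subgroup.orderOf_mk yX hy).trans order_y
  obtain ⟨S, hS⟩ := (IsPGroup.of_card (n := 1) (by rw [Nat.card_zpowers, hy', pow_one]) :
    IsPGroup 7 (Subgroup.zpowers y')).exists_le_sylow
  have hSe : Subgroup.zpowers y' = S := by
    refine Subgroup.eq_of_le_of_card_ge hS ?_
    obtain ⟨k, hk⟩ := IsPGroup.iff_card.1 S.2
    rw [Nat.card_zpowers, hy', hk]
    have hd : 7 ^ k ∣ 20160 := hk ▸ hc ▸ Subgroup.card_subgroup_dvd_card (S : Subgroup ↥L)
    rcases Nat.lt_or_ge k 2 with h | h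
    · interval_cases k <;> norm_num
    · exact absurd ((pow_dvd_pow 7 h).trans hd) (by norm_num)
  set N := Subgroup.normalizer ((Subgroup.zpowers y' : Subgroup ↥L) : Set ↥L) with hN
  have hmem : ∀ g ∈ N, (g : ↥X) ∈ prodsYT := fun g hg => by
    refine normalizer_y g.1 (conj_pow_of_normalizer hy hg) ?_
    obtain ⟨j, hj⟩ := conj_pow_of_normalizer hy (inv_mem hg)
    refine ⟨j, ?_⟩
    rw [← hj]; simp
  have himg : (Finset.univ.image fun g : ↥N => ((g : ↥L) : ↥X)) ⊆ prodsYT := by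
    intro x hx
    obtain ⟨g, -, rfl⟩ := Finset.mem_image.1 hx
    exact hmem g.1 g.2
  have hcardN : (Finset.univ.image fun g : ↥N => ((g : ↥L) : ↥X)).card = Nat.card N := by
    rw [Finset.card_image_of_injective _ fun a b e => Subtype.ext (Subtype.ext e), Finset.card_univ,
      Nat.card_eq_fintype_card]
  have hle : Nat.card N ≤ 21 := hcardN ▸ (Finset.card_le_card himg).trans card_prodsYT
  have hindex : Nat.card (Sylow 7 ↥L) = N.index := by
    rw [S.card_eq_index_normalizer, hN, hSe]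
    rfl
  have hmod := card_sylow_modEq_one 7 ↥L
  rw [hindex] at hmod
  have hmul := N.index_mul_card
  rw [hc] at hmul
  have h7 : 7 ∣ Nat.card N := by
    have := Subgroup.card_dvd_of_le (Subgroup.le_normalizer (H := Subgroup.zpowers y'))
    rwa [Nat.card_zpowers, hy', ← hN] at this
  have h21 : Nat.card N = 21 := by
    obtain ⟨j, hj⟩ := h7
    rw [hj] at hmul hle ⊢
    unfold Nat.ModEq at hmod
    have hj3 : j ≤ 3 := by omega
    interval_cases j <;> omega
  have heq := Finset.eq_of_subset_of_card_le himg (by rw [hcardN, h21]; exact card_prodsYT)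
  have htm : tX ∈ prodsYT := Finset.mem_image.2 ⟨(0, 1), Finset.mem_univ _, by simp⟩
  rw [← heq] at htm
  obtain ⟨g, -, e⟩ := Finset.mem_image.1 htm
  rw [← e]
  exact g.1.2

/-- **A subgroup of index 162 fixes one of the 162 points, up to an automorphism.** -/
theorem stab_of_index_M (L : Subgroup ↥X) (hc : Nat.card L = 20160) :
    ∃ (β : ↥X ≃* ↥X) (m : V), InM m ∧ ∀ x ∈ L, (β x).1 m = m := by
  classical
  haveI : Fact (Nat.Prime 7) := ⟨by norm_num⟩
  haveI : Fact (Nat.Prime 3) := ⟨Nat.prime_three⟩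
  haveI := finite_X
  obtain ⟨z, hz⟩ := exists_prime_orderOf_dvd_card' (G := ↥L) 7 (by rw [hc]; norm_num)
  have hz' : orderOf z.1 = 7 := (Subgroup.orderOf_coe z).trans hz
  obtain ⟨P, hP⟩ := (IsPGroup.of_card (n := 1) (by rw [Nat.card_zpowers, hz', pow_one]) :
    IsPGroup 7 (Subgroup.zpowers z.1)).exists_le_sylow
  obtain ⟨Q, hQ⟩ := (IsPGroup.of_card (n := 1) (by rw [Nat.card_zpowers, order_y, pow_one]) :
    IsPGroup 7 (Subgroup.zpowers yX)).exists_le_sylow
  obtain ⟨g, hg⟩ := MulAction.exists_smul_eq (↥X) P Q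
  set L' := L.map (MulAut.conj g).toMonoidHom
  have hc' : Nat.card L' = 20160 := by
    rw [Subgroup.card_map_of_injective (MulAut.conj g).injective, hc]
  have hy : yX ∈ L' := by
    have h1 : yX ∈ (Q : Subgroup ↥X) := hQ (Subgroup.mem_zpowers _)
    rw [← hg, Sylow.coe_subgroup_smul, ← sylow7_card P hz' hP] at h1
    obtain ⟨w, hw, e⟩ := h1
    exact ⟨w, (Subgroup.zpowers_le.2 z.2) hw, e⟩
  have ht := t_mem L' hc' hy
  set t' : ↥L' := ⟨tX, ht⟩
  have ht' : orderOf t' = 3 := (Subgroup.orderOf_mk tX ht).trans order_t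
  obtain ⟨R, hR, hle⟩ := Sylow.exists_subgroup_card_pow_prime_le (G := ↥L') 3 (n := 1) (m := 2)
    (by rw [hc']; norm_num) (Subgroup.zpowers t') (by rw [Nat.card_zpowers, ht', pow_one]) (by norm_num)
  obtain ⟨u, hu, hnu⟩ : ∃ u ∈ R, u ∉ Subgroup.zpowers t' := by
    by_contra h
    push Not at h
    have := Subgroup.card_dvd_of_le (show R ≤ Subgroup.zpowers t' from h)
    rw [hR, Nat.card_zpowers, ht'] at this
    norm_num at this
  have hcomm : u * t' = t' * u := congrArg Subtype.val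
    (IsPGroup.commutative_of_card_eq_prime_sq hR (⟨u, hu⟩ : ↥R) ⟨t', hle (Subgroup.mem_zpowers _)⟩)
  rcases centralizer_t u.1 (congrArg Subtype.val hcomm) with ⟨i, -, e⟩ | ⟨c, hc13, hmem, i, j, e⟩
  · exact absurd (show u ∈ Subgroup.zpowers t' from ⟨i, Subtype.ext (by simp [t', e])⟩) hnu
  · obtain ⟨β, m, hm, hfix⟩ := stab_normal_M L' hc' hy ht hc13 (z := el _ hmem)
      (e ▸ mul_mem (pow_mem ht i) (pow_mem u.2 j)) (does_el _ hmem)
    exact ⟨(MulAut.conj g).trans β, m, hm, fun x hx => hfix _ ⟨x, hx, rfl⟩⟩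

end CfsgLib.Spor.McLThree
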