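import Cfsg.Agent.Lib.Spor.McLThree.StabN
import Cfsg.Agent.Lib.Spor.McLThree.StabM
import Cfsg.Agent.Lib.Spor.McLThree.Renaming
import Cfsg.Agent.Lib.Spor.McLThree.AutBound
import Cfsg.Prelude.Def_SporadicB

/-!
# The recognition of the McLaughlin group as a rank three group on 275 points
-/

set_option autoImplicit false
set_option maxRecDepth 100000

namespace CfsgLib.Spor.McLThree

open MulAction
open CfsgLib.Spor.McLPerm (fixSub pnt P)

theorem simple_P : IsSimpleGroup P := by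
  haveI := McLPerm.isMcL_G0.1
  exact McLPerm.equivP.symm.isSimpleGroup

/-- A group of the order of the model keeping its graph is the model. -/
theorem eq_P {G : Subgroup (Equiv.Perm V)} (hc : Nat.card G = 275 * 3265920)
    (hA : ∀ g ∈ G, ∀ x y : V, Adj0 (g x) (g y) ↔ Adj0 x y) : G = P := by
  have hG : G ≤ FixL [] := fun σ hσ => ⟨hA σ hσ, fun a ha => by cases ha⟩
  have hB : P ≤ FixL [] := fun σ hσ => ⟨fun x y => by rw [Adj0, Adj0, adj0_P hσ], fun a ha => by cases ha⟩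
  haveI := simple_P
  have hP : Nat.card P = 898128000 := McLPerm.card_P
  have hGA : G.relIndex (FixL []) ≤ 2 := by
    have h := (G.subgroupOf (FixL [])).index_mul_card
    rw [Nat.card_congr (Subgroup.subgroupOfEquivOfLe hG).toEquiv, hc] at h
    have h4 := card_aut_le
    rw [← h] at h4
    change (G.subgroupOf (FixL [])).index ≤ 2
    omega
  have hne : G.relIndex (FixL []) ≠ 0 := Subgroup.index_ne_zero_of_finite
  have hidx : (G.subgroupOf P).index ≤ 2 := (Subgroup.relIndex_le_of_le_right hB hne).trans hGA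
  have hpos : (G.subgroupOf P).index ≠ 0 := Subgroup.index_ne_zero_of_finite
  have htop : G.subgroupOf P = ⊤ := by
    rcases Nat.lt_or_ge (G.subgroupOf P).index 2 with h | h
    · exact Subgroup.index_eq_one.1 (by omega)
    · have hn : (G.subgroupOf P).Normal := Subgroup.normal_of_index_eq_two (le_antisymm hidx h)
      rcases hn.eq_bot_or_eq_top with e | e
      · exfalso
        rw [e, Subgroup.index_bot, hP] at hidx
        omega
      · exact e
  exact (Subgroup.eq_of_le_of_card_ge (Subgroup.subgroupOf_eq_top.1 htop) (by rw [hc, hP])).symm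

theorem card_stab_mul (s : V) : (orbit (↥X) s).ncard * Nat.card (stabilizer (↥X) s) = 3265920 := by
  rw [← card_X, ← Nat.card_congr (orbitProdStabilizerEquivGroup (↥X) s), Nat.card_prod, Nat.card_coe_set_eq]

theorem orbit_points (n : V) : orbit (↥X) n = {c : V | ∃ g ∈ X, g n = c} :=
  Set.ext fun c => ⟨fun ⟨g, e⟩ => ⟨g.1, g.2, e⟩, fun ⟨g, hg, e⟩ => ⟨⟨g, hg⟩, e⟩⟩

section

variable {Ω : Type*} [Finite Ω] {G : Subgroup (Equiv.Perm Ω)} {a : Ω}

theorem comap_card (φ : ↥X ≃* ↥(stabilizer (↥G) a)) (b : Ω) {N k : ℕ}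
    (hb : (orbit (↥(stabilizer (↥G) a)) b).ncard = N) (hk : k * N = 3265920) (hN : 0 < N) :
    Nat.card ((stabilizer (↥(stabilizer (↥G) a)) b).comap φ.toMonoidHom) = k := by
  have e1 : Nat.card ((stabilizer (↥(stabilizer (↥G) a)) b).comap φ.toMonoidHom) =
      Nat.card (stabilizer (↥(stabilizer (↥G) a)) b) := by
    refine Nat.card_congr (Equiv.subtypeEquiv φ.toEquiv fun x => ?_)
    rfl
  have e2 := Nat.card_congr (orbitProdStabilizerEquivGroup (↥(stabilizer (↥G) a)) b)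
  rw [Nat.card_prod, Nat.card_coe_set_eq, hb, ← Nat.card_congr φ.toEquiv, card_X, ← e1, mul_comm] at e2
  exact Nat.eq_of_mul_eq_mul_right hN (e2.trans hk.symm)

theorem key_of_fixed (φ : ↥X ≃* ↥(stabilizer (↥G) a)) (b : Ω) {N k : ℕ}
    (hb : (orbit (↥(stabilizer (↥G) a)) b).ncard = N) (hk : k * N = 3265920) (hN : 0 < N) (s : V)
    (hs : (orbit (↥X) s).ncard = N) (hfix : ∀ x : ↥X, φ x • b = b → x • s = s) :
    ∀ x y : ↥X, (x.1 s = y.1 s ↔ φ x • b = φ y • b) := by
  have hle : (stabilizer (↥(stabilizer (↥G) a)) b).comap φ.toMonoidHom ≤ stabilizer (↥X) s := fun x hx => hfix x hx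
  have hcs := card_stab_mul s
  rw [hs] at hcs
  have heq := Subgroup.eq_of_le_of_card_ge hle (by
    rw [comap_card φ b hb hk hN]
    exact (Nat.eq_of_mul_eq_mul_left hN (hcs.trans (hk.symm.trans (mul_comm k N)))).le)
  intro x y
  have h1 : x.1 s = y.1 s ↔ y⁻¹ * x ∈ stabilizer (↥X) s := by
    rw [mem_stabilizer_iff, mul_smul, inv_smul_eq_iff]; rfl
  rw [h1, ← heq]
  show φ (y⁻¹ * x) • b = b ↔ _
  rw [map_mul, map_inv, mul_smul, inv_smul_eq_iff]

end

/-- **The McLaughlin group is determined by its rank three action on 275 points.** -/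
theorem recognition {Ω : Type*} [Fintype Ω] (hΩ : Fintype.card Ω = 275) (G : Subgroup (Equiv.Perm Ω))
    [IsPretransitive G Ω] (a : Ω) (K : Type) [Field K] [Fintype K] (hK : Fintype.card K = 9)
    (e : stabilizer G a ≃* Cfsg.PSU 4 K 3) (b c : Ω)
    (hb : (orbit (stabilizer G a) b).ncard = 112) (hc : (orbit (stabilizer G a) c).ncard = 162) :
    Cfsg.Spor.IsoMcL G := by
  classical
  obtain ⟨e0⟩ := nonempty_equiv_U43 K hK
  let φ0 : ↥X ≃* ↥(stabilizer (↥G) a) := e0.trans e.symm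
  obtain ⟨β, m, hm, hfixm⟩ := stab_of_index_M ((stabilizer (↥(stabilizer (↥G) a)) c).comap φ0.toMonoidHom)
    (comap_card φ0 c hc (by norm_num) (by norm_num))
  let φ : ↥X ≃* ↥(stabilizer (↥G) a) := β.symm.trans φ0
  have horbN : ∀ n, InN n → (orbit (↥X) n).ncard = 112 := fun n hn => by
    rw [orbit_points, ← ncard_N]
    obtain ⟨g, hg, rfl⟩ := (inN_iff n).1 hn
    refine congrArg Set.ncard (Set.ext fun q => ⟨fun ⟨h, hh, e⟩ => ?_, fun hq => ?_⟩)
    · rw [Set.mem_setOf_eq, ← e, inN_map hh, inN_iff]; exact ⟨g, hg, rfl⟩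
    · obtain ⟨h, hh, rfl⟩ := (inN_iff q).1 hq
      exact ⟨h * g⁻¹, mul_mem hh (inv_mem hg), by simp⟩
  have horbM : ∀ n, InM n → (orbit (↥X) n).ncard = 162 := fun n hn => by
    rw [orbit_points, ← ncard_M]
    obtain ⟨g, hg, rfl⟩ := (inM_iff n).1 hn
    refine congrArg Set.ncard (Set.ext fun q => ⟨fun ⟨h, hh, e⟩ => ?_, fun hq => ?_⟩)
    · rw [Set.mem_setOf_eq, ← e, inM_map hh, inM_iff]; exact ⟨g, hg, rfl⟩
    · obtain ⟨h, hh, rfl⟩ := (inM_iff q).1 hq
      exact ⟨h * g⁻¹, mul_mem hh (inv_mem hg), by simp⟩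
  obtain ⟨n, hn, hfixn⟩ := stab_of_index_N
    (((stabilizer (↥(stabilizer (↥G) a)) b).comap φ.toMonoidHom).map X.subtype) (Subgroup.map_subtype_le _)
    (by rw [Subgroup.card_map_of_injective X.subtype_injective]; exact comap_card φ b hb (by norm_num) (by norm_num))
  have keyN : ∀ x y : ↥X, (x.1 n = y.1 n ↔ φ x • b = φ y • b) :=
    key_of_fixed φ b hb (k := 29160) (by norm_num) (by norm_num) n (horbN n hn) fun x hx => hfixn x.1 ⟨x, hx, rfl⟩
  have keyM : ∀ x y : ↥X, (x.1 m = y.1 m ↔ φ x • c = φ y • c) :=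
    key_of_fixed φ c hc (k := 20160) (by norm_num) (by norm_num) m (horbM m hm) fun x hx => by
      have := hfixm (β.symm x) hx
      rwa [β.apply_symm_apply] at this
  have hexN : ∀ q, InN q → ∃ x : ↥X, x.1 n = q := fun q hq => by
    obtain ⟨g, hg, rfl⟩ := (inN_iff q).1 hq
    obtain ⟨g', hg', e'⟩ := (inN_iff n).1 hn
    exact ⟨⟨g * g'⁻¹, mul_mem hg (inv_mem hg')⟩, by simp [← e']⟩
  have hexM : ∀ q, InM q → ∃ x : ↥X, x.1 m = q := fun q hq => by
    obtain ⟨g, hg, rfl⟩ := (inM_iff q).1 hq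
    obtain ⟨g', hg', e'⟩ := (inM_iff m).1 hm
    exact ⟨⟨g * g'⁻¹, mul_mem hg (inv_mem hg')⟩, by simp [← e']⟩
  let θ : V → Ω := fun q => if h : InN q then φ (hexN q h).choose • b else
    if h' : InM q then φ (hexM q h').choose • c else a
  have θN : ∀ x : ↥X, θ (x.1 n) = φ x • b := fun x => by
    have h : InN (x.1 n) := (inN_map x.2 n).2 hn
    simp only [θ, dif_pos h]
    exact (keyN _ _).1 (hexN _ h).choose_spec
  have notNM : ∀ q, InM q → ¬ InN q := fun q hq hq' => by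
    rcases partition q with ⟨-, h, -⟩ | ⟨-, ⟨-, h⟩ | ⟨-, h⟩⟩
    exacts [h hq', h hq, h hq']
  have θM : ∀ x : ↥X, θ (x.1 m) = φ x • c := fun x => by
    have h : InM (x.1 m) := (inM_map x.2 m).2 hm
    simp only [θ, dif_neg (notNM _ h), dif_pos h]
    exact (keyM _ _).1 (hexM _ h).choose_spec
  have θ0 : θ 0 = a := by
    rcases partition 0 with ⟨-, h1, h2⟩ | ⟨h, -⟩
    · simp only [θ, dif_neg h1, dif_neg h2]
    · exact absurd rfl h
  have hfixa : ∀ x : ↥X, φ x • a = a := fun x => (φ x).2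
  have hne : ∀ (u : Ω), 1 < (orbit (stabilizer G a) u).ncard → ∀ x : ↥X, φ x • u ≠ a := by
    intro u hu x he
    have hua : u = a := MulAction.injective (φ x) (he.trans (hfixa x).symm)
    have hsub : orbit (stabilizer G a) u ⊆ {a} := by
      rintro _ ⟨g, rfl⟩
      rw [hua]
      exact g.2
    have := Set.ncard_le_ncard hsub
    rw [Set.ncard_singleton] at this
    omega
  have hbc : ∀ x y : ↥X, φ x • b ≠ φ y • c := by
    intro x y he
    have h1 : orbit (stabilizer G a) b = orbit (stabilizer G a) c :=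
      orbit_eq_iff.2 ⟨(φ x)⁻¹ * φ y, by
        show ((φ x)⁻¹ * φ y) • c = b
        rw [mul_smul, ← he, inv_smul_smul]⟩
    rw [h1, hc] at hb
    exact absurd hb (by norm_num)
  have hcase : ∀ q : V, q = 0 ∨ (∃ x : ↥X, q = x.1 n) ∨ (∃ x : ↥X, q = x.1 m) := fun q => by
    rcases partition q with ⟨h, -, -⟩ | ⟨-, ⟨h, -⟩ | ⟨h, -⟩⟩
    · exact Or.inl h
    · obtain ⟨x, hx⟩ := hexN q h; exact Or.inr (Or.inl ⟨x, hx.symm⟩)
    · obtain ⟨x, hx⟩ := hexM q h; exact Or.inr (Or.inr ⟨x, hx.symm⟩)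
  have hinj : Function.Injective θ := by
    intro p q hpq
    rcases hcase p with rfl | ⟨x, rfl⟩ | ⟨x, rfl⟩ <;> rcases hcase q with rfl | ⟨y, rfl⟩ | ⟨y, rfl⟩ <;>
      simp only [θ0, θN, θM] at hpq
    · rfl
    · exact absurd hpq.symm (hne b (by omega) y)
    · exact absurd hpq.symm (hne c (by omega) y)
    · exact absurd hpq (hne b (by omega) x)
    · exact (keyN x y).2 hpq
    · exact absurd hpq (hbc x y)
    · exact absurd hpq (hne c (by omega) x)
    · exact absurd hpq.symm (hbc y x)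
    · exact (keyM x y).2 hpq
  have hequiv : ∀ (x : ↥X) (q : V), θ (x.1 q) = φ x • θ q := by
    intro x q
    rcases hcase q with rfl | ⟨y, rfl⟩ | ⟨y, rfl⟩
    · rw [X_fix x.2, θ0, hfixa]
    · rw [θN, ← Equiv.Perm.mul_apply, show x.1 * y.1 = (x * y).1 from rfl, θN, map_mul, mul_smul]
    · rw [θM, ← Equiv.Perm.mul_apply, show x.1 * y.1 = (x * y).1 from rfl, θM, map_mul, mul_smul]
  let Θ : V ≃ Ω := Equiv.ofBijective θ ((Fintype.bijective_iff_injective_and_card θ).2
    ⟨hinj, by rw [Fintype.card_fin, hΩ]⟩)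
  let ψ : Equiv.Perm Ω ≃* Equiv.Perm V := Equiv.permCongrHom Θ.symm
  have hψ : ∀ (g : Equiv.Perm Ω) (q : V), Θ (ψ g q) = g (Θ q) := fun g q => by
    simp [ψ, Equiv.permCongrHom, Equiv.permCongr_apply]
  have hψx : ∀ x : ↥X, ψ ((φ x : ↥G) : Equiv.Perm Ω) = x.1 := fun x =>
    Equiv.ext fun q => Θ.injective ((hψ _ q).trans (hequiv x q).symm)
  have S : Setting (G.map ψ.toMonoidHom) := by
    refine ⟨fun q => ?_, ?_, fun g hg => ?_⟩
    · obtain ⟨g, hg⟩ := MulAction.exists_smul_eq G a (θ q)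
      refine ⟨ψ g.1, ⟨g.1, g.2, rfl⟩, Θ.injective ?_⟩
      rw [hψ]
      show (g.1 : Equiv.Perm Ω) (θ 0) = θ q
      rw [θ0]
      exact hg
    · rintro _ ⟨g, hg, rfl⟩
      constructor
      · intro h0
        have h1 : (g : Equiv.Perm Ω) a = a := by
          have := hψ g 0
          rw [show ψ g 0 = 0 from h0] at this
          rw [show Θ 0 = a from θ0] at this
          exact this.symm
        have hmem : (⟨g, hg⟩ : ↥G) ∈ stabilizer (↥G) a := h1
        obtain ⟨x, hx⟩ := φ.surjective ⟨⟨g, hg⟩, hmem⟩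
        show ψ g ∈ X
        have := hψx x
        rw [hx] at this
        rw [show ψ g = x.1 from this]
        exact x.2
      · exact X_fix
    · exact ⟨_, (φ ⟨g, hg⟩ : ↥G).2, hψx ⟨g, hg⟩⟩
  obtain ⟨G', ⟨eG⟩, hcard, hA⟩ := exists_setting S
  obtain rfl := eq_P hcard hA
  obtain ⟨eM⟩ := McLPerm.nonempty_equiv_McL
  exact ⟨(((G.equivMapOfInjective ψ.toMonoidHom ψ.injective).trans eG)).trans eM.symm⟩

end CfsgLib.Spor.McLThree
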