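import Cfsg.Agent.Lib.Spor.McLThree.CheckChain
import Cfsg.Agent.Lib.Spor.McLPerm.Group
import Cfsg.Agent.Lib.Spor.McLStab.Main

/-!
The stabilizer of a point in the McLaughlin group of degree 275 with its orbits of lengths 112 and 162, and
products along chains.
-/

set_option autoImplicit false
set_option maxRecDepth 100000

namespace CfsgLib.Spor.McLThree

open MulAction Cfsg
open CfsgLib.Spor.McLPerm (look eltRows fixSub pnt P)

/-- The 275 points. -/
abbrev V := Fin 275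

/-- The stabilizer of the first point. -/
noncomputable def X : Subgroup (Equiv.Perm V) := fixSub P [0]

theorem pnt_val {b : ℕ} (h : b < 275) : (pnt b).1 = b := Nat.mod_eq_of_lt h

theorem pnt_self (c : V) : pnt c.1 = c := Fin.ext (pnt_val c.2)

theorem mem_X {g : Equiv.Perm V} : g ∈ X ↔ g ∈ P ∧ g 0 = 0 := by
  refine ⟨fun h => ⟨h.1, h.2 0 List.mem_cons_self⟩, fun h => ⟨h.1, fun c hc => ?_⟩⟩
  rw [List.mem_singleton.1 hc]
  exact h.2

theorem X_le : X ≤ P := fun _ h => h.1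

theorem X_fix {g : Equiv.Perm V} (h : g ∈ X) : g 0 = 0 := (mem_X.1 h).2

/-- A permutation acts as a function on numbers. -/
def Does (g : Equiv.Perm V) (f : ℕ → ℕ) : Prop := ∀ i : V, (g i).1 = f i.1

theorem Does.one : Does 1 id := fun _ => rfl

theorem Does.mul {g h : Equiv.Perm V} {f f' : ℕ → ℕ} (hg : Does g f) (hh : Does h f') :
    Does (g * h) (fun b => f (f' b)) := fun i => by rw [Equiv.Perm.mul_apply, hg, hh i]

theorem Does.pow {g : Equiv.Perm V} {f : ℕ → ℕ} (hg : Does g f) : ∀ n : ℕ, Does (g ^ n) (itF f n)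
  | 0 => fun _ => rfl
  | n + 1 => fun i => by
    rw [pow_succ', Equiv.Perm.mul_apply, hg, Does.pow hg n i]
    rfl

theorem itI_eq (g : ℕ) : ∀ k x, itI g k x = itF (img g) k x
  | 0, _ => rfl
  | k + 1, x => by simp only [itI, itF, itI_eq g k x]

theorem Does.powI {g : Equiv.Perm V} {e : ℕ} (hg : Does g (img e)) (n : ℕ) : Does (g ^ n) (itI e n) := fun i => by
  rw [hg.pow n i, itI_eq]

theorem Does.app {g : Equiv.Perm V} {f : ℕ → ℕ} (hg : Does g f) {b : ℕ} (hb : b < 275) : (g (pnt b)).1 = f b := by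
  rw [hg, pnt_val hb]

theorem exists_word : ∀ (w : List ℕ), okWord w = true → ∃ x ∈ X, Does x (wv w) := by
  intro w
  induction w with
  | nil => exact fun _ => ⟨1, one_mem _, Does.one⟩
  | cons u w ih =>
    intro h
    simp only [okWord, List.all_cons, Bool.and_eq_true] at h
    obtain ⟨⟨hu, hfix⟩, hw⟩ := h
    obtain ⟨x, hx, dx⟩ := ih hw
    obtain ⟨a, ha, da⟩ := McLPerm.elt_mem (Nat.le_of_ble_eq_true hu)
    refine ⟨a * x, mul_mem (mem_X.2 ⟨ha, Fin.ext ?_⟩) hx, fun i => ?_⟩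
    · rw [da]; exact Nat.eq_of_beq_eq_true hfix
    · rw [Equiv.Perm.mul_apply, da, dx]; rfl

theorem exists_pk {e : ℕ × List ℕ} (h : pkOK e = true) : ∃ x ∈ X, Does x (img e.1) := by
  simp only [pkOK, Bool.and_eq_true, List.all_eq_true, List.mem_range] at h
  obtain ⟨x, hx, dx⟩ := exists_word e.2 h.1
  exact ⟨x, hx, fun i => by rw [dx i, Nat.eq_of_beq_eq_true (h.2 i.1 i.2).1]⟩

theorem transitive (z : V) : ∃ g ∈ P, g 0 = z := by
  have h : ((List.range 275).all fun c => (McLPerm.transIdx.getD 0 []).any fun n =>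
      Nat.blt n 891 && Nat.beq (look eltRows n 0) c) = true := by decide +kernel
  simp only [List.all_eq_true, List.mem_range, List.any_eq_true, Bool.and_eq_true] at h
  obtain ⟨n, -, hn, e⟩ := h z.1 z.2
  obtain ⟨g, hg, dg⟩ := McLPerm.elt_mem (Nat.le_of_ble_eq_true hn)
  exact ⟨g, hg, Fin.ext (by rw [dg]; exact Nat.eq_of_beq_eq_true e)⟩

theorem card_X : Nat.card X = 3265920 := by
  have e := Nat.card_congr (orbitProdStabilizerEquivGroup (↥P) (0 : V))
  rw [Nat.card_prod, McLPerm.card_P, show orbit (↥P) (0 : V) = Set.univ from Set.eq_univ_of_forall fun z => by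
    obtain ⟨g, hg, e⟩ := transitive z
    exact ⟨⟨g, hg⟩, e⟩, Nat.card_coe_set_eq, Set.ncard_univ, Nat.card_fin] at e
  have h : Nat.card (stabilizer (↥P) (0 : V)) = Nat.card X :=
    Nat.card_congr
      { toFun := fun g => ⟨g.1.1, mem_X.2 ⟨g.1.2, g.2⟩⟩
        invFun := fun g => ⟨⟨g.1, X_le g.2⟩, X_fix g.2⟩
        left_inv := fun g => rfl
        right_inv := fun g => rfl }
  omega

/-! ### Chains -/

theorem stab_card (fixed : List ℕ) (b : ℕ) :
    Nat.card (stabilizer (↥(fixSub P fixed)) (pnt b)) = Nat.card (fixSub P (b :: fixed)) :=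
  Nat.card_congr
    { toFun := fun g => ⟨g.1.1, g.1.2.1, fun c hc => by
        rcases List.mem_cons.1 hc with rfl | hc
        · exact g.2
        · exact g.1.2.2 c hc⟩
      invFun := fun g => ⟨⟨g.1, g.2.1, fun c hc => g.2.2 c (List.mem_cons_of_mem _ hc)⟩,
        g.2.2 b List.mem_cons_self⟩
      left_inv := fun g => rfl
      right_inv := fun g => rfl }

theorem orbit_card_mul (fixed : List ℕ) (b : ℕ) :
    (orbit (↥(fixSub P fixed)) (pnt b)).ncard * Nat.card (fixSub P (b :: fixed)) = Nat.card (fixSub P fixed) := by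
  rw [← stab_card, ← Nat.card_coe_set_eq, ← Nat.card_prod]
  exact Nat.card_congr (orbitProdStabilizerEquivGroup _ _)

/-- Each element of a level is an element of the stabilizer of the first point. -/
def Mem (L : List (ℕ × List ℕ)) : Prop := ∀ l ∈ L, ∀ g ∈ l.2, ∃ x ∈ X, Does x (img g)

/-- The product of the lengths. -/
def total (L : List (ℕ × List ℕ)) : ℕ := (L.map fun l => l.2.length).prod

theorem lvl_step {fixed : List ℕ} {b : ℕ} {T : List ℕ} {L : List (ℕ × List ℕ)} (h : lvlsOK fixed ((b, T) :: L) = true)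
    (hm : Mem ((b, T) :: L)) (hf : ∀ c ∈ fixed, c < 275) :
    b < 275 ∧ lvlsOK (b :: fixed) L = true ∧ T.length ≤ (orbit (↥(fixSub P fixed)) (pnt b)).ncard ∧
      ∀ g ∈ T, ∃ x ∈ fixSub P fixed, Does x (img g) := by
  simp only [lvlsOK, Bool.and_eq_true, decide_eq_true_eq, List.all_eq_true] at h
  obtain ⟨⟨⟨hb, hnd⟩, hT⟩, hrest⟩ := h
  have hb' : b < 275 := Nat.le_of_ble_eq_true hb
  have hel : ∀ g ∈ T, ∃ x ∈ fixSub P fixed, Does x (img g) := fun g hg => by
    obtain ⟨x, hx, dx⟩ := hm _ List.mem_cons_self g hg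
    exact ⟨x, ⟨X_le hx, fun c hc => Fin.ext (by
      rw [dx.app (hf c hc), Nat.eq_of_beq_eq_true (hT g hg c hc), pnt_val (hf c hc)])⟩, dx⟩
  refine ⟨hb', hrest, ?_, hel⟩
  classical
  rw [← List.length_map (f := fun g => img g b), ← List.toFinset_card_of_nodup hnd,
    ← Finset.card_image_of_injective _ (fun (i j : ℕ) (e : id i = id j) => e), Finset.image_id]
  refine le_trans (le_of_eq (Set.ncard_coe_finset _).symm)
    (Set.ncard_le_ncard_of_injOn (fun c => pnt c) ?_ ?_ (Set.toFinite _))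
  · intro c hc
    simp only [Finset.mem_coe, List.mem_toFinset, List.mem_map] at hc
    obtain ⟨g, hg, rfl⟩ := hc
    obtain ⟨x, hx, dx⟩ := hel g hg
    have e : x (pnt b) = pnt (img g b) := Fin.ext (by
      rw [dx.app hb']
      refine (pnt_val ?_).symm
      rw [← dx.app hb']
      exact (x (pnt b)).2)
    exact ⟨⟨x, hx⟩, e⟩
  · intro c hc d hd e
    simp only [Finset.mem_coe, List.mem_toFinset, List.mem_map] at hc hd
    obtain ⟨g, hg, rfl⟩ := hc
    obtain ⟨g', hg', rfl⟩ := hd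
    obtain ⟨x, -, dx⟩ := hel g hg
    obtain ⟨x', -, dx'⟩ := hel g' hg'
    have hc1 : img g b < 275 := dx.app hb' ▸ (x (pnt b)).2
    have hc2 : img g' b < 275 := dx'.app hb' ▸ (x' (pnt b)).2
    rw [← pnt_val hc1, ← pnt_val hc2]
    exact congrArg Fin.val e

theorem lower : ∀ (L : List (ℕ × List ℕ)) (fixed : List ℕ), lvlsOK fixed L = true → Mem L → (∀ c ∈ fixed, c < 275) →
    total L ≤ Nat.card (fixSub P fixed)
  | [], fixed, _, _, _ => show 1 ≤ _ from Nat.card_pos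
  | (b, T) :: L, fixed, h, hm, hf => by
    obtain ⟨hb, hrest, horb, -⟩ := lvl_step h hm hf
    have ih := lower L (b :: fixed) hrest (fun l hl => hm l (List.mem_cons_of_mem _ hl)) (by simpa [hb] using hf)
    rw [← orbit_card_mul fixed b]
    exact Nat.mul_le_mul horb ih

/-- A tight level: the orbit is the listed one and the next stabilizer is tight. -/
theorem tight {fixed : List ℕ} {b : ℕ} {T : List ℕ} {L : List (ℕ × List ℕ)} (h : lvlsOK fixed ((b, T) :: L) = true)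
    (hm : Mem ((b, T) :: L)) (hf : ∀ c ∈ fixed, c < 275) (hpos : 0 < total ((b, T) :: L))
    (hc : Nat.card (fixSub P fixed) ≤ total ((b, T) :: L)) :
    (orbit (↥(fixSub P fixed)) (pnt b)).ncard = T.length ∧ Nat.card (fixSub P (b :: fixed)) = total L ∧
      ∀ z : V, z ∈ orbit (↥(fixSub P fixed)) (pnt b) ↔ ∃ g ∈ T, z.1 = img g b := by
  obtain ⟨hb, hrest, horb, hel⟩ := lvl_step h hm hf
  have hlow := lower L (b :: fixed) hrest (fun l hl => hm l (List.mem_cons_of_mem _ hl)) (by simpa [hb] using hf)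
  have e : total ((b, T) :: L) = T.length * total L := by simp [total]
  rw [e] at hc hpos
  rw [← orbit_card_mul fixed b] at hc
  obtain ⟨hT, hL⟩ : 0 < T.length ∧ 0 < total L := ⟨Nat.pos_of_mul_pos_right hpos, Nat.pos_of_mul_pos_left hpos⟩
  have e1 : (orbit (↥(fixSub P fixed)) (pnt b)).ncard = T.length := by
    by_contra hne
    have h1 := Nat.mul_le_mul (Nat.succ_le_of_lt (lt_of_le_of_ne horb (Ne.symm hne))) hlow
    rw [Nat.succ_mul] at h1
    omega
  refine ⟨e1, ?_, fun z => ?_⟩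
  · rw [e1] at hc
    exact le_antisymm (Nat.le_of_mul_le_mul_left hc hT) hlow
  classical
  have hsub : ((T.map fun g => pnt (img g b)).toFinset : Set V) ⊆ orbit (↥(fixSub P fixed)) (pnt b) := by
    intro c hc
    simp only [List.coe_toFinset, Set.mem_setOf_eq, List.mem_map] at hc
    obtain ⟨g, hg, rfl⟩ := hc
    obtain ⟨x, hx, dx⟩ := hel g hg
    refine ⟨⟨x, hx⟩, Fin.ext ?_⟩
    show (x (pnt b)).1 = _
    rw [dx.app hb, pnt_val]
    rw [← dx.app hb]
    exact (x (pnt b)).2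
  have hlt : ∀ g ∈ T, img g b < 275 := fun g hg => by
    obtain ⟨x, -, dx⟩ := hel g hg
    rw [← dx.app hb]; exact (x (pnt b)).2
  have heq := Set.eq_of_subset_of_ncard_le hsub (by
    rw [e1, Set.ncard_coe_finset, List.toFinset_card_of_nodup, List.length_map]
    simp only [lvlsOK, Bool.and_eq_true, decide_eq_true_eq] at h
    refine List.Nodup.map_on ?_ (List.Nodup.of_map _ h.1.1.2)
    intro g hg g' hg' e
    have e' := congrArg Fin.val e
    simp only [pnt_val (hlt g hg), pnt_val (hlt g' hg')] at e'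
    exact List.inj_on_of_nodup_map h.1.1.2 hg hg' e') (Set.toFinite _)
  rw [← heq]
  simp only [List.coe_toFinset, Set.mem_setOf_eq, List.mem_map]
  constructor
  · rintro ⟨g, hg, rfl⟩; exact ⟨g, hg, pnt_val (hlt g hg)⟩
  · rintro ⟨g, hg, e⟩; exact ⟨g, hg, Fin.ext (by rw [pnt_val (hlt g hg), e])⟩

theorem decomp : ∀ (L : List (ℕ × List ℕ)) (fixed : List ℕ), lvlsOK fixed L = true → Mem L →
    (∀ c ∈ fixed, c < 275) → 0 < total L → Nat.card (fixSub P fixed) ≤ total L →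
    ∀ g ∈ fixSub P fixed, ∃ p, List.Forall₂ (fun a l => a ∈ l.2) p L ∧ Does g (ev p)
  | [], fixed, _, _, _, _, hc => fun g hg => by
    have h1 : Nat.card (fixSub P fixed) = 1 := le_antisymm (by simpa [total] using hc) Nat.card_pos
    rw [Subgroup.card_eq_one.1 h1, Subgroup.mem_bot] at hg
    exact ⟨[], List.Forall₂.nil, hg ▸ Does.one⟩
  | (b, T) :: L, fixed, h, hm, hf, hpos, hc => fun g hg => by
    obtain ⟨-, e2, e3⟩ := tight h hm hf hpos hc
    obtain ⟨hb, hrest, -, hel⟩ := lvl_step h hm hf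
    obtain ⟨a, ha, hga⟩ := (e3 (g (pnt b))).1 ⟨⟨g, hg⟩, rfl⟩
    obtain ⟨x, hx, dx⟩ := hel a ha
    have hmem : x⁻¹ * g ∈ fixSub P (b :: fixed) := ⟨mul_mem (inv_mem hx.1) hg.1, fun c hc' => by
      rw [Equiv.Perm.mul_apply, Equiv.Perm.inv_eq_iff_eq]
      rcases List.mem_cons.1 hc' with rfl | hc'
      · exact Fin.ext (by rw [hga, dx.app hb])
      · rw [hg.2 c hc', hx.2 c hc']⟩
    have hL : 0 < total L := Nat.pos_of_mul_pos_left (show 0 < T.length * total L by simpa [total] using hpos)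
    obtain ⟨p, hp, dp⟩ := decomp L (b :: fixed) hrest (fun l hl => hm l (List.mem_cons_of_mem _ hl))
      (by simpa [hb] using hf) hL e2.le _ hmem
    refine ⟨a :: p, List.Forall₂.cons ha hp, ?_⟩
    have := dx.mul dp
    rwa [mul_inv_cancel_left] at this

theorem bottom : ∀ (L : List (ℕ × List ℕ)) (fixed : List ℕ), lvlsOK fixed L = true → Mem L → (∀ c ∈ fixed, c < 275) →
    0 < total L → Nat.card (fixSub P fixed) ≤ total L →
    ∀ g ∈ fixSub P fixed, (∀ l ∈ L, g (pnt l.1) = pnt l.1) → g = 1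
  | [], fixed, _, _, _, _, hc => fun g hg _ => by
    have h1 : Nat.card (fixSub P fixed) = 1 := le_antisymm (by simpa [total] using hc) Nat.card_pos
    rwa [Subgroup.card_eq_one.1 h1, Subgroup.mem_bot] at hg
  | (b, T) :: L, fixed, h, hm, hf, hpos, hc => fun g hg hfix => by
    obtain ⟨-, e2, -⟩ := tight h hm hf hpos hc
    obtain ⟨hb, hrest, -, -⟩ := lvl_step h hm hf
    have hL : 0 < total L := Nat.pos_of_mul_pos_left (show 0 < T.length * total L by simpa [total] using hpos)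
    refine bottom L (b :: fixed) hrest (fun l hl => hm l (List.mem_cons_of_mem _ hl)) (by simpa [hb] using hf) hL
      e2.le g ⟨hg.1, fun c hc' => ?_⟩ fun l hl => hfix l (List.mem_cons_of_mem _ hl)
    rcases List.mem_cons.1 hc' with rfl | hc'
    · exact hfix _ List.mem_cons_self
    · exact hg.2 c hc'

theorem mem_levels {C : List (ℕ × List (ℕ × List ℕ))} (h : (flat C).all pkOK = true) : Mem (levels C) := by
  intro l hl g hg
  simp only [levels, List.mem_map] at hl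
  obtain ⟨l', hl', rfl⟩ := hl
  obtain ⟨e, he, rfl⟩ := List.mem_map.1 hg
  exact exists_pk (List.all_eq_true.1 h e (List.mem_flatMap.2 ⟨l', hl', he⟩))

theorem memA : Mem lvA := mem_levels pkA_ok

theorem memB : Mem lvB := mem_levels pkB_ok

theorem totA : total lvA = 3265920 := lvlA_ok.2

theorem totB : total lvB = 3265920 := lvlB_ok.2

theorem fix0 : ∀ c ∈ [0], c < 275 := by simp

theorem decA {g : Equiv.Perm V} (hg : g ∈ X) : ∃ p, List.Forall₂ (fun a l => a ∈ l.2) p lvA ∧ Does g (ev p) :=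
  decomp lvA [0] lvlA_ok.1 memA fix0 (by rw [totA]; norm_num) (by rw [totA]; exact card_X.le) g hg

theorem decB {g : Equiv.Perm V} (hg : g ∈ X) : ∃ p, List.Forall₂ (fun a l => a ∈ l.2) p lvB ∧ Does g (ev p) :=
  decomp lvB [0] lvlB_ok.1 memB fix0 (by rw [totB]; norm_num) (by rw [totB]; exact card_X.le) g hg

theorem eq_of_baseA {g h : Equiv.Perm V} (hg : g ∈ X) (hh : h ∈ X) (e : ∀ b ∈ baseA, g (pnt b) = h (pnt b)) :
    g = h := by
  have := bottom lvA [0] lvlA_ok.1 memA fix0 (by rw [totA]; norm_num) (by rw [totA]; exact card_X.le) (h⁻¹ * g)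
    (mul_mem (inv_mem hh) hg) fun l hl => by
      rw [Equiv.Perm.mul_apply, e l.1 (List.mem_map_of_mem hl), ← Equiv.Perm.mul_apply, inv_mul_cancel]
      rfl
  exact (inv_mul_eq_one.1 this).symm

theorem eq_of_baseB {g h : Equiv.Perm V} (hg : g ∈ X) (hh : h ∈ X) (e : ∀ b ∈ baseB, g (pnt b) = h (pnt b)) :
    g = h := by
  have := bottom lvB [0] lvlB_ok.1 memB fix0 (by rw [totB]; norm_num) (by rw [totB]; exact card_X.le) (h⁻¹ * g)
    (mul_mem (inv_mem hh) hg) fun l hl => by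
      rw [Equiv.Perm.mul_apply, e l.1 (List.mem_map_of_mem hl), ← Equiv.Perm.mul_apply, inv_mul_cancel]
      rfl
  exact (inv_mul_eq_one.1 this).symm

theorem agreeA_eq {g h : Equiv.Perm V} (hg : g ∈ X) (hh : h ∈ X) {f f' : ℕ → ℕ} (dg : Does g f) (dh : Does h f')
    (e : agreeA f f' = true) : g = h := by
  refine eq_of_baseA hg hh fun b hb => Fin.ext ?_
  simp only [agreeA, List.all_eq_true] at e
  rw [dg, dh]
  have hb' : b < 275 := by
    have : baseA.all (fun x => Nat.blt x 275) = true := by decide +kernel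
    exact Nat.le_of_ble_eq_true (List.all_eq_true.1 this b hb)
  rw [pnt_val hb']
  exact Nat.eq_of_beq_eq_true (e b hb)

/-- A point among the 112. -/
def InN (c : V) : Prop := bitB maskN c.1 = true

/-- A point among the 162. -/
def InM (c : V) : Prop := inMB c.1 = true

theorem lvA_head : lvA = (3, (lvA.getD 0 (0, [])).2) :: lvA.drop 1 := by decide +kernel

theorem lvB_head : lvB = (1, (lvB.getD 0 (0, [])).2) :: lvB.drop 1 := by decide +kernel

theorem lens : (lvA.getD 0 (0, [])).2.length = 162 ∧ (lvB.getD 0 (0, [])).2.length = 112 ∧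
    total (lvA.drop 1) = 20160 ∧ total (lvB.drop 1) = 29160 := by decide +kernel

theorem tightA : (orbit (↥X) (3 : V)).ncard = 162 ∧ Nat.card (fixSub P [3, 0]) = 20160 ∧
    ∀ z : V, z ∈ orbit (↥X) (3 : V) ↔ ∃ g ∈ (lvA.getD 0 (0, [])).2, z.1 = img g 3 := by
  have h := lvlA_ok.1
  have hm := memA
  have ht := totA
  rw [lvA_head] at h hm ht
  have := tight h hm fix0 (by rw [ht]; norm_num) (by rw [ht]; exact card_X.le)
  rw [lens.1, lens.2.2.1] at this
  exact this

theorem tightB : (orbit (↥X) (1 : V)).ncard = 112 ∧ Nat.card (fixSub P [1, 0]) = 29160 ∧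
    ∀ z : V, z ∈ orbit (↥X) (1 : V) ↔ ∃ g ∈ (lvB.getD 0 (0, [])).2, z.1 = img g 1 := by
  have h := lvlB_ok.1
  have hm := memB
  have ht := totB
  rw [lvB_head] at h hm ht
  have := tight h hm fix0 (by rw [ht]; norm_num) (by rw [ht]; exact card_X.le)
  rw [lens.2.1, lens.2.2.2] at this
  exact this

theorem inN_iff (c : V) : InN c ↔ ∃ g ∈ X, g 1 = c := by
  have h := tops_ok
  simp only [topsOK, List.all_eq_true, List.mem_range, Bool.and_eq_true, beq_iff_eq] at h
  rw [InN, (h c.1 c.2).2, List.any_eq_true]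
  refine ⟨fun ⟨g, hg, e⟩ => ?_, fun ⟨g, hg, e⟩ => ?_⟩
  · obtain ⟨x, hx⟩ := (tightB.2.2 c).2 ⟨g, hg, (Nat.eq_of_beq_eq_true e).symm⟩
    exact ⟨x.1, x.2, hx⟩
  · obtain ⟨a, ha, e'⟩ := (tightB.2.2 c).1 ⟨⟨g, hg⟩, e⟩
    exact ⟨a, ha, by rw [e']; exact Nat.beq_refl _⟩

theorem inM_iff (c : V) : InM c ↔ ∃ g ∈ X, g 3 = c := by
  have h := tops_ok
  simp only [topsOK, List.all_eq_true, List.mem_range, Bool.and_eq_true, beq_iff_eq] at h
  rw [InM, (h c.1 c.2).1, List.any_eq_true]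
  refine ⟨fun ⟨g, hg, e⟩ => ?_, fun ⟨g, hg, e⟩ => ?_⟩
  · obtain ⟨x, hx⟩ := (tightA.2.2 c).2 ⟨g, hg, (Nat.eq_of_beq_eq_true e).symm⟩
    exact ⟨x.1, x.2, hx⟩
  · obtain ⟨a, ha, e'⟩ := (tightA.2.2 c).1 ⟨⟨g, hg⟩, e⟩
    exact ⟨a, ha, by rw [e']; exact Nat.beq_refl _⟩

theorem inN_map {g : Equiv.Perm V} (hg : g ∈ X) (c : V) : InN (g c) ↔ InN c := by
  rw [inN_iff, inN_iff]
  exact ⟨fun ⟨x, hx, e⟩ => ⟨g⁻¹ * x, mul_mem (inv_mem hg) hx, by simp [e]⟩,
    fun ⟨x, hx, e⟩ => ⟨g * x, mul_mem hg hx, by simp [e]⟩⟩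

theorem inM_map {g : Equiv.Perm V} (hg : g ∈ X) (c : V) : InM (g c) ↔ InM c := by
  rw [inM_iff, inM_iff]
  exact ⟨fun ⟨x, hx, e⟩ => ⟨g⁻¹ * x, mul_mem (inv_mem hg) hx, by simp [e]⟩,
    fun ⟨x, hx, e⟩ => ⟨g * x, mul_mem hg hx, by simp [e]⟩⟩

theorem partition (c : V) : c = 0 ∧ ¬ InN c ∧ ¬ InM c ∨ c ≠ 0 ∧ (InN c ∧ ¬ InM c ∨ InM c ∧ ¬ InN c) := by
  have h0 : bitB maskN 0 = false := by decide +kernel
  by_cases hc : c = 0
  · subst hc
    refine Or.inl ⟨rfl, ?_, ?_⟩ <;> simp [InN, InM, inMB, h0]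
  · have hne : Nat.beq c.1 0 = false := by
      refine Bool.eq_false_iff.2 fun h => hc (Fin.ext (Nat.eq_of_beq_eq_true h))
    refine Or.inr ⟨hc, ?_⟩
    simp only [InN, InM, inMB, hne]
    cases bitB maskN c.1 <;> simp

theorem inN_one : InN 1 := (inN_iff 1).2 ⟨1, one_mem _, rfl⟩

theorem inM_three : InM 3 := (inM_iff 3).2 ⟨1, one_mem _, rfl⟩

theorem ncard_N : {c : V | InN c}.ncard = 112 := by
  rw [← tightB.1]
  congr 1
  ext c
  rw [Set.mem_setOf_eq, inN_iff]
  exact ⟨fun ⟨g, hg, e⟩ => ⟨⟨g, hg⟩, e⟩, fun ⟨g, e⟩ => ⟨g.1, g.2, e⟩⟩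

theorem ncard_M : {c : V | InM c}.ncard = 162 := by
  rw [← tightA.1]
  congr 1
  ext c
  rw [Set.mem_setOf_eq, inM_iff]
  exact ⟨fun ⟨g, hg, e⟩ => ⟨⟨g, hg⟩, e⟩, fun ⟨g, e⟩ => ⟨g.1, g.2, e⟩⟩

theorem X_eq_map : X = McLStab.K0.map McLPerm.rho := by
  ext g
  rw [mem_X]
  constructor
  · rintro ⟨⟨h, rfl⟩, h0⟩
    refine ⟨h, ?_, rfl⟩
    have e := McLPerm.vec_act h 0
    rw [show McLPerm.act h 0 = 0 from h0] at e
    show h • (Leech.Census32.xBL : leechLattice) = _
    rw [McLStab.xBL_vec]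
    exact e.symm
  · rintro ⟨h, hh, rfl⟩
    refine ⟨⟨h, rfl⟩, McLPerm.vec_bijective.1 (Subtype.ext ?_)⟩
    show (McLPerm.vec (McLPerm.act h 0)).1 = _
    rw [McLPerm.vec_act]
    have e : h • (Leech.Census32.xBL : leechLattice) = _ := hh
    rw [McLStab.xBL_vec] at e
    exact e

theorem nonempty_equiv_U43 (F : Type) [Field F] [Fintype F] (hF : Fintype.card F = 9) :
    Nonempty (↥X ≃* Cfsg.PSU 4 F 3) := by
  obtain ⟨e⟩ := McLStab.exists_equiv F hF
  exact ⟨((MulEquiv.subgroupCongr X_eq_map).trans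
    (McLStab.K0.equivMapOfInjective McLPerm.rho McLPerm.rho_injective).symm).trans e⟩

end CfsgLib.Spor.McLThree
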