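import Cfsg.Agent.Lib.Spor.McLThree.Model
import Cfsg.Agent.Lib.Spor.McLThree.CheckOrb

/-!
The orbits of the stabilizers of two points in the McLaughlin group on 275 points.
-/

set_option autoImplicit false
set_option maxRecDepth 100000

namespace CfsgLib.Spor.McLThree

open MulAction
open CfsgLib.Spor.McLPerm (fixSub pnt P)

/-- The orbit of a point under a group of permutations. -/
def orb (H : Subgroup (Equiv.Perm V)) (v : V) : Set V := {z | ∃ g ∈ H, g v = z}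

theorem mem_orb_self (H : Subgroup (Equiv.Perm V)) (v : V) : v ∈ orb H v := ⟨1, one_mem _, rfl⟩

theorem orb_map {H : Subgroup (Equiv.Perm V)} {g : Equiv.Perm V} (hg : g ∈ H) {v z : V} (hz : z ∈ orb H v) :
    g z ∈ orb H v := by
  obtain ⟨h, hh, rfl⟩ := hz
  exact ⟨g * h, mul_mem hg hh, rfl⟩

theorem orb_eq {H : Subgroup (Equiv.Perm V)} {v z : V} (hz : z ∈ orb H v) : orb H z = orb H v := by
  obtain ⟨h, hh, rfl⟩ := hz
  refine Set.ext fun y => ⟨fun ⟨g, hg, e⟩ => ⟨g * h, mul_mem hg hh, e⟩,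
    fun ⟨g, hg, e⟩ => ⟨g * h⁻¹, mul_mem hg (inv_mem hh), by simpa using e⟩⟩

theorem orb_mul (H : Subgroup (Equiv.Perm V)) (v : V) :
    (orb H v).ncard * Nat.card ↥(H ⊓ stabilizer (Equiv.Perm V) v) = Nat.card H := by
  rw [← Nat.card_congr (orbitProdStabilizerEquivGroup (↥H) v), Nat.card_prod, Nat.card_coe_set_eq]
  congr 1
  · exact congrArg Set.ncard (Set.ext fun z => ⟨fun ⟨g, hg, e⟩ => ⟨⟨g, hg⟩, e⟩, fun ⟨g, e⟩ => ⟨g.1, g.2, e⟩⟩)
  · exact Nat.card_congr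
      { toFun := fun g => ⟨⟨g.1, g.2.1⟩, g.2.2⟩
        invFun := fun g => ⟨g.1.1, g.1.2, g.2⟩
        left_inv := fun _ => rfl
        right_inv := fun _ => rfl }

theorem orb_dvd (H : Subgroup (Equiv.Perm V)) (v : V) : (orb H v).ncard ∣ Nat.card H := ⟨_, (orb_mul H v).symm⟩

theorem maskInv_ev {gs : List ℕ} {m : ℕ} (h : maskInv gs m = true) : ∀ p : List ℕ, (∀ a ∈ p, a ∈ gs) →
    (∀ a ∈ p, ∀ z < 275, img a z < 275) → ∀ z < 275, bitB m z = true → bitB m (ev p z) = true ∧ ev p z < 275 := by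
  simp only [maskInv, List.all_eq_true, List.mem_range, Bool.or_eq_true, Bool.not_eq_true'] at h
  intro p
  induction p with
  | nil => exact fun _ _ z hz hb => ⟨hb, hz⟩
  | cons a p ih =>
    intro hp hl z hz hb
    obtain ⟨h1, h2⟩ := ih (fun b hb' => hp b (List.mem_cons_of_mem _ hb'))
      (fun b hb' => hl b (List.mem_cons_of_mem _ hb')) z hz hb
    refine ⟨(h a (hp a List.mem_cons_self) _ h2).resolve_left ?_, hl a List.mem_cons_self _ h2⟩
    rw [h1]; decide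

theorem forall2_flat : ∀ {L : List (ℕ × List ℕ)} {p : List ℕ}, List.Forall₂ (fun a l => a ∈ l.2) p L →
    ∀ a ∈ p, a ∈ L.flatMap Prod.snd
  | _, _, .nil, a, ha => by cases ha
  | l :: L, _ :: p, .cons hb hp, a, ha => by
    rcases List.mem_cons.1 ha with rfl | ha
    · exact List.mem_flatMap.2 ⟨l, List.mem_cons_self, hb⟩
    · obtain ⟨l', hl', h'⟩ := List.mem_flatMap.1 (forall2_flat hp a ha)
      exact List.mem_flatMap.2 ⟨l', List.mem_cons_of_mem _ hl', h'⟩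

/-- The stabilizer in the first stabilizer of the second point. -/
noncomputable def J : Subgroup (Equiv.Perm V) := fixSub P [1, 0]

/-- The stabilizer in the first stabilizer of the fourth point. -/
noncomputable def L0 : Subgroup (Equiv.Perm V) := fixSub P [3, 0]

theorem mem_J {g : Equiv.Perm V} : g ∈ J ↔ g ∈ X ∧ g 1 = 1 := by
  refine ⟨fun h => ⟨mem_X.2 ⟨h.1, h.2 0 (by simp)⟩, h.2 1 List.mem_cons_self⟩, fun h => ⟨X_le h.1, fun c hc => ?_⟩⟩
  rcases List.mem_cons.1 hc with rfl | hc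
  · exact h.2
  · rw [List.mem_singleton.1 hc]; exact X_fix h.1

theorem mem_L0 {g : Equiv.Perm V} : g ∈ L0 ↔ g ∈ X ∧ g 3 = 3 := by
  refine ⟨fun h => ⟨mem_X.2 ⟨h.1, h.2 0 (by simp)⟩, h.2 3 List.mem_cons_self⟩, fun h => ⟨X_le h.1, fun c hc => ?_⟩⟩
  rcases List.mem_cons.1 hc with rfl | hc
  · exact h.2
  · rw [List.mem_singleton.1 hc]; exact X_fix h.1

theorem J_le : J ≤ X := fun _ h => (mem_J.1 h).1

theorem card_J : Nat.card J = 29160 := tightB.2.1

theorem card_L0 : Nat.card L0 = 20160 := tightA.2.1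

theorem drop_ok : lvlsOK [1, 0] (lvB.drop 1) = true ∧ lvlsOK [3, 0] (lvA.drop 1) = true := by
  have h := lvlB_ok.1
  have h' := lvlA_ok.1
  rw [lvB_head] at h
  rw [lvA_head] at h'
  simp only [lvlsOK, Bool.and_eq_true] at h h'
  exact ⟨h.2, h'.2⟩

theorem memBd : Mem (lvB.drop 1) := fun l hl => memB l (List.mem_of_mem_drop hl)

theorem memAd : Mem (lvA.drop 1) := fun l hl => memA l (List.mem_of_mem_drop hl)

theorem decJ {g : Equiv.Perm V} (hg : g ∈ J) : ∃ p, List.Forall₂ (fun a l => a ∈ l.2) p (lvB.drop 1) ∧ Does g (ev p) :=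
  decomp (lvB.drop 1) [1, 0] drop_ok.1 memBd (by simp) (by rw [lens.2.2.2]; norm_num)
    (by rw [lens.2.2.2]; exact card_J.le) g hg

theorem decL0 {g : Equiv.Perm V} (hg : g ∈ L0) :
    ∃ p, List.Forall₂ (fun a l => a ∈ l.2) p (lvA.drop 1) ∧ Does g (ev p) :=
  decomp (lvA.drop 1) [3, 0] drop_ok.2 memAd (by simp) (by rw [lens.2.2.1]; norm_num)
    (by rw [lens.2.2.1]; exact card_L0.le) g hg

theorem inv_of_mem {L : List (ℕ × List ℕ)} (hm : Mem L) {p : List ℕ} (hp : List.Forall₂ (fun a l => a ∈ l.2) p L)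
    {m : ℕ} (h : maskInv (L.flatMap Prod.snd) m = true) {g : Equiv.Perm V} (dg : Does g (ev p)) (z : V)
    (hz : bitB m z.1 = true) : bitB m (g z).1 = true := by
  rw [dg z]
  refine (maskInv_ev h p (forall2_flat hp) (fun a ha z hz' => ?_) z.1 z.2 hz).1
  obtain ⟨l, hl, hal⟩ := List.mem_flatMap.1 (forall2_flat hp a ha)
  obtain ⟨x, -, dx⟩ := hm l hl a hal
  rw [← dx.app hz']
  exact (x (pnt z)).2

/-- The set of a mask. -/
def setOf' (m : ℕ) : Set V := {z | bitB m z.1 = true}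

theorem orbit_of_check {gs : List ℕ} {b : ℕ} {o : ℕ × List (ℕ × List ℕ)} (h : orbOK gs b o = true) (hb : b < 275) (hr : (o.2.headD (0, [])).1 < 275)
    (H : Subgroup (Equiv.Perm V)) (hH : ∀ g ∈ X, g (pnt b) = pnt b → g ∈ H)
    (hinv : ∀ g ∈ H, ∀ z : V, z ∈ setOf' o.1 → g z ∈ setOf' o.1) :
    ∀ v ∈ setOf' o.1, orb H v = setOf' o.1 := by
  simp only [orbOK, Bool.and_eq_true, List.all_eq_true, List.mem_range, Bool.or_eq_true, Bool.not_eq_true',
    List.any_eq_true] at h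
  obtain ⟨⟨-, hw⟩, hcov⟩ := h
  set r : ℕ := (o.2.headD (0, [])).1
  have reach : ∀ z ∈ setOf' o.1, z ∈ orb H (pnt r) := by
    intro z hz
    obtain ⟨e, he, hez⟩ := (hcov z.1 z.2).resolve_left (by rw [show bitB o.1 z.1 = true from hz]; decide)
    obtain ⟨⟨⟨hok, hfix⟩, himg⟩, -⟩ := hw e he
    obtain ⟨x, hx, dx⟩ := exists_word e.2 hok
    refine ⟨x, hH x hx (Fin.ext (by rw [dx.app hb, Nat.eq_of_beq_eq_true hfix, pnt_val hb])), Fin.ext ?_⟩
    rw [dx.app hr, Nat.eq_of_beq_eq_true himg]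
    exact Nat.eq_of_beq_eq_true hez
  intro v hv
  refine Set.Subset.antisymm (fun z ⟨g, hg, e⟩ => e ▸ hinv g hg v hv) fun z hz => ?_
  rw [orb_eq (reach v hv)]
  exact reach z hz

theorem masks_inv : maskInv gensJ o30.1 = true ∧ maskInv gensJ o81.1 = true ∧ maskInv gensJ o81a.1 = true ∧
    maskInv gensJ o81b.1 = true ∧ maskInv gensL o56.1 = true ∧ maskInv gensL o105.1 = true := by
  have h1 := o30_ok; have h2 := o81_ok; have h3 := o81a_ok; have h4 := o81b_ok; have h5 := o56_ok; have h6 := o105_ok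
  simp only [orbOK, Bool.and_eq_true] at h1 h2 h3 h4 h5 h6
  exact ⟨h1.1.1, h2.1.1, h3.1.1, h4.1.1, h5.1.1, h6.1.1⟩

theorem J_orbit {o : ℕ × List (ℕ × List ℕ)} (h : orbOK gensJ 1 o = true) (hr : (o.2.headD (0, [])).1 < 275) :
    ∀ v ∈ setOf' o.1, orb J v = setOf' o.1 := by
  refine orbit_of_check h (by norm_num) hr J (fun g hg h1 => mem_J.2 ⟨hg, h1⟩) fun g hg z hz => ?_
  obtain ⟨p, hp, dp⟩ := decJ hg
  simp only [orbOK, Bool.and_eq_true] at h
  exact inv_of_mem memBd hp h.1.1 dp z hz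

theorem L0_orbit {o : ℕ × List (ℕ × List ℕ)} (h : orbOK gensL 3 o = true) (hr : (o.2.headD (0, [])).1 < 275) :
    ∀ v ∈ setOf' o.1, orb L0 v = setOf' o.1 := by
  refine orbit_of_check h (by norm_num) hr L0 (fun g hg h1 => mem_L0.2 ⟨hg, h1⟩) fun g hg z hz => ?_
  obtain ⟨p, hp, dp⟩ := decL0 hg
  simp only [orbOK, Bool.and_eq_true] at h
  exact inv_of_mem memAd hp h.1.1 dp z hz

theorem o30_orbit : ∀ v ∈ setOf' o30.1, orb J v = setOf' o30.1 := J_orbit o30_ok (by decide +kernel)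

theorem o81_orbit : ∀ v ∈ setOf' o81.1, orb J v = setOf' o81.1 := J_orbit o81_ok (by decide +kernel)

theorem o81a_orbit : ∀ v ∈ setOf' o81a.1, orb J v = setOf' o81a.1 := J_orbit o81a_ok (by decide +kernel)

theorem o81b_orbit : ∀ v ∈ setOf' o81b.1, orb J v = setOf' o81b.1 := J_orbit o81b_ok (by decide +kernel)

theorem o56_orbit : ∀ v ∈ setOf' o56.1, orb L0 v = setOf' o56.1 := L0_orbit o56_ok (by decide +kernel)

theorem o105_orbit : ∀ v ∈ setOf' o105.1, orb L0 v = setOf' o105.1 := L0_orbit o105_ok (by decide +kernel)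

theorem ncard_setOf' (m : ℕ) : (setOf' m).ncard = popc m := by
  classical
  rw [popc, ← List.toFinset_card_of_nodup ((List.nodup_range).filter _), ← Set.ncard_coe_finset,
    ← Set.ncard_image_of_injective (setOf' m) Fin.val_injective]
  congr 1
  ext c
  simp only [setOf', Set.mem_image, Set.mem_setOf_eq, List.coe_toFinset, List.mem_filter, List.mem_range]
  exact ⟨fun ⟨z, hz, e⟩ => e ▸ ⟨z.2, hz⟩, fun ⟨h1, h2⟩ => ⟨⟨c, h1⟩, h2, rfl⟩⟩

theorem sizes : popc o30.1 = 30 ∧ popc o81.1 = 81 ∧ popc o81a.1 = 81 ∧ popc o81b.1 = 81 ∧ popc o56.1 = 56 ∧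
    popc o105.1 = 105 ∧ popc maskN = 112 := by decide +kernel

theorem card_stab_J {v : V} {m k : ℕ} (h : orb J v = setOf' m) (hk : k * popc m = 29160) (hp : 0 < popc m) :
    Nat.card ↥(J ⊓ stabilizer (Equiv.Perm V) v) = k := by
  have e := orb_mul J v
  rw [h, ncard_setOf', card_J, mul_comm] at e
  exact Nat.eq_of_mul_eq_mul_right hp (e.trans hk.symm)

theorem inN_split (z : V) : (InN z ↔ z = 1 ∨ z ∈ setOf' o30.1 ∨ z ∈ setOf' o81.1) := by
  have h := split_ok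
  simp only [splitOK, List.all_eq_true, List.mem_range, Bool.and_eq_true, beq_iff_eq] at h
  obtain ⟨⟨⟨⟨⟨⟨⟨⟨⟨⟨h1, -⟩, -⟩, -⟩, -⟩, -⟩, -⟩, -⟩, -⟩, -⟩, -⟩ := h z.1 z.2
  rw [InN, h1]
  simp only [Bool.or_eq_true, setOf', Set.mem_setOf_eq, or_assoc]
  exact or_congr_left ⟨fun e => Fin.ext (Nat.eq_of_beq_eq_true e), fun e => by subst e; rfl⟩

end CfsgLib.Spor.McLThree
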