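import Cfsg.Agent.Lib.Spor.McLThree.Elts
import Mathlib.GroupTheory.Sylow

/-!
The normaliser of the element of order seven and the centralizer of the element of order three.
-/

set_option autoImplicit false
set_option maxRecDepth 100000

namespace CfsgLib.Spor.McLThree

open MulAction
open CfsgLib.Spor.McLPerm (fixSub pnt P)

theorem fix_of_levels {L : List (ℕ × List ℕ)} {b : ℕ} (h : (L.all fun l => l.2.all fun g => Nat.beq (img g b) b) = true) :
    ∀ p : List ℕ, (∀ a ∈ p, a ∈ L.flatMap Prod.snd) → ev p b = b := by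
  simp only [List.all_eq_true] at h
  intro p
  induction p with
  | nil => exact fun _ => rfl
  | cons a p ih =>
    intro hp
    obtain ⟨l, hl, hal⟩ := List.mem_flatMap.1 (hp a List.mem_cons_self)
    show img a (ev p b) = b
    rw [ih fun c hc => hp c (List.mem_cons_of_mem _ hc), Nat.eq_of_beq_eq_true (h l hl a hal)]

theorem forall2_three {L1 L2 L3 : ℕ × List ℕ} {p : List ℕ}
    (h : List.Forall₂ (fun a l => a ∈ l.2) p [L1, L2, L3]) :
    ∃ b c d, p = [b, c, d] ∧ b ∈ L1.2 ∧ c ∈ L2.2 ∧ d ∈ L3.2 := by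
  rcases h with _ | ⟨hb, h⟩
  rcases h with _ | ⟨hc, h⟩
  rcases h with _ | ⟨hd, h⟩
  rcases h with _ | _
  exact ⟨_, _, _, rfl, hb, hc, hd⟩

theorem forall2_four {L0 L1 L2 L3 : ℕ × List ℕ} {p : List ℕ}
    (h : List.Forall₂ (fun a l => a ∈ l.2) p [L0, L1, L2, L3]) :
    ∃ a b c d, p = [a, b, c, d] ∧ a ∈ L0.2 ∧ b ∈ L1.2 ∧ c ∈ L2.2 ∧ d ∈ L3.2 := by
  rcases h with _ | ⟨ha, h⟩
  obtain ⟨b, c, d, rfl, hb, hc, hd⟩ := forall2_three h
  exact ⟨_, b, c, d, rfl, ha, hb, hc, hd⟩

theorem agreeA_of {f f' : ℕ → ℕ} (h : ∀ b < 275, f b = f' b) : agreeA f f' = true := by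
  have hlt : baseA.all (fun x => Nat.blt x 275) = true := by decide +kernel
  simp only [agreeA, List.all_eq_true]
  intro b hb
  rw [h b (Nat.le_of_ble_eq_true (List.all_eq_true.1 hlt b hb))]
  exact Nat.beq_refl _

theorem does_lt {g : Equiv.Perm V} {f : ℕ → ℕ} (dg : Does g f) {b : ℕ} (hb : b < 275) : f b < 275 := by
  rw [← dg.app hb]; exact (g (pnt b)).2

theorem scan_N {b : ℕ} (hb : b ∈ (lvA.getD 1 (0, [])).2) {c : ℕ} (hc : c ∈ (lvA.getD 2 (0, [])).2) {d : ℕ}
    (hd : d ∈ (lvA.getD 3 (0, [])).2) : leafN [b, c, d] = true := by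
  have key : ∀ lo hi, scanN lo hi = true → b ∈ ((lvA.getD 1 (0, [])).2.take hi).drop lo → leafN [b, c, d] = true := by
    intro lo hi h hmem
    simp only [scanN, List.all_eq_true] at h
    exact h b hmem c hc d hd
  rw [scan_split.2.2.2.1] at hb
  simp only [List.mem_append] at hb
  rcases hb with hb | hb | hb | hb
  exacts [key 0 14 scanN_ok0 hb, key 14 28 scanN_ok1 hb, key 28 42 scanN_ok2 hb, key 42 56 scanN_ok3 hb]

/-- The products of powers of the two elements. -/
noncomputable def prodsYT : Finset ↥X := by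
  classical
  exact (Finset.univ : Finset (Fin 7 × Fin 3)).image fun ij => yX ^ ij.1.1 * tX ^ ij.2.1

theorem card_prodsYT : prodsYT.card ≤ 21 := by
  classical
  refine Finset.card_image_le.trans (le_of_eq ?_)
  simp

/-- **An element normalising the group of order seven is one of twenty-one.** -/
theorem normalizer_y (g : ↥X) (hg : ∃ k : ℕ, g * yX * g⁻¹ = yX ^ k) (hg' : ∃ j : ℕ, g⁻¹ * yX * g = yX ^ j) :
    g ∈ prodsYT := by
  classical
  obtain ⟨k0, hk⟩ := hg
  obtain ⟨j, hj⟩ := hg'
  have hfix3 : ∀ m : ℕ, (yX ^ m).1 3 = 3 := by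
    have h3 : yX.1 3 = 3 := by
      have := small_facts
      refine Fin.ext ((does_y 3).trans ?_)
      decide +kernel
    intro m
    induction m with
    | zero => rfl
    | succ m ih => rw [pow_succ, Subgroup.coe_mul, Equiv.Perm.mul_apply, h3, ih]
  have hy : yX.1 (g.1 3) = g.1 3 := by
    have e : yX * g = g * yX ^ j := by rw [← hj]; group
    have := congrArg (fun z : ↥X => z.1 3) e
    simp only [Subgroup.coe_mul, Equiv.Perm.mul_apply, hfix3] at this
    exact this
  have hg3 : g.1 3 = 3 := by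
    have h := small_facts.2.2.2.2.1
    simp only [List.all_eq_true, List.mem_range, Bool.or_eq_true, Bool.not_eq_true'] at h
    rcases h (g.1 3).1 (g.1 3).2 with (h | h) | h
    · exfalso
      rw [← does_y, hy, Nat.beq_refl] at h
      exact Bool.noConfusion h
    · exfalso
      have e : g.1 3 = g.1 0 := by rw [X_fix g.2]; exact Fin.ext (Nat.eq_of_beq_eq_true h)
      exact absurd (g.1.injective e) (by decide)
    · exact Fin.ext (Nat.eq_of_beq_eq_true h)
  obtain ⟨p, hp, dp⟩ := decL0 (mem_L0.2 ⟨g.2, hg3⟩)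
  rw [scan_split.2.1] at hp
  obtain ⟨b, c, d, rfl, hb, hc, hd⟩ := forall2_three hp
  have hl := scan_N hb hc hd
  simp only [leafN, Bool.or_eq_true, List.all_eq_true, List.any_eq_true, List.mem_range, Bool.not_eq_true'] at hl
  rcases hl with h | ⟨i, hi, j', hj', h⟩
  · exfalso
    have hk7 : g * yX = yX ^ (k0 % 7) * g := by
      rw [← order_y, pow_mod_orderOf, ← hk]; group
    have eq : ∀ x < 275, ev [b, c, d] (img yE.1 x) = itI yE.1 (k0 % 7) (ev [b, c, d] x) := fun x hx => by
      have d1 := (dp.mul does_y).app hx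
      have d2 := ((does_y.powI (k0 % 7)).mul dp).app hx
      have e : (g.1 * yX.1) = (yX.1 ^ (k0 % 7) * g.1) := congrArg Subtype.val hk7
      rw [e] at d1
      exact d1.symm.trans d2
    rcases h (k0 % 7) (Nat.mod_lt _ (by norm_num)) with h | h
    · rw [eq 203 (by norm_num), Nat.beq_refl] at h
      exact Bool.noConfusion h
    · rw [agreeA_of eq] at h
      exact Bool.noConfusion h
  · refine Finset.mem_image.2 ⟨(⟨i, hi⟩, ⟨j', hj'⟩), Finset.mem_univ _, Subtype.ext ?_⟩
    exact (agreeA_eq g.2 (yX ^ i * tX ^ j').2 dp ((does_y.powI i).mul (does_t.powI j')) h).symm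

/-- **An element commuting with the element of order three lies in its group or gives one of thirteen.** -/
theorem centralizer_t (u : ↥X) (hu : u * tX = tX * u) :
    (∃ i < 3, u = tX ^ i) ∨ ∃ c < 13, ∃ h : uE.getD c (0, []) ∈ [yE, tE] ++ uE ++ alphaH, ∃ i j : ℕ,
      tX ^ i * u ^ j = el (uE.getD c (0, [])) h := by
  obtain ⟨p, hp, dp⟩ := decA u.2
  rw [scan_split.2.2.1] at hp
  obtain ⟨a, b, c, d, rfl, ha, hb, hc, hd⟩ := forall2_four hp
  have hmemA : ∀ x ∈ [b, c, d], x ∈ (lvA.drop 1).flatMap Prod.snd := by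
    rw [scan_split.2.1]
    intro x hx
    simp only [List.mem_cons, List.not_mem_nil, or_false] at hx
    simp only [List.flatMap_cons, List.flatMap_nil, List.mem_append, List.append_nil]
    rcases hx with rfl | rfl | rfl
    exacts [Or.inl hb, Or.inr (Or.inl hc), Or.inr (Or.inr hd)]
  have hmemA2 : ∀ x ∈ [c, d], x ∈ (lvA.drop 2).flatMap Prod.snd := by
    rw [show lvA.drop 2 = (lvA.drop 1).drop 1 by rw [List.drop_drop], scan_split.2.1]
    intro x hx
    simp only [List.mem_cons, List.not_mem_nil, or_false] at hx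
    simp only [List.drop_succ_cons, List.drop_zero, List.flatMap_cons, List.flatMap_nil, List.mem_append, List.append_nil]
    rcases hx with rfl | rfl
    exacts [Or.inl hc, Or.inr hd]
  have hu' : u.1 * tX.1 = tX.1 * u.1 := congrArg Subtype.val hu
  have t203 : img tE.1 203 = 203 := small_facts.2.2.2.2.2.2.2.1
  have t3 : img tE.1 3 = 3 := small_facts.2.2.2.2.2.2.2.2
  have e3 : ev [a, b, c, d] 3 = img a 3 := congrArg (img a) (fix_of_levels scan_split.2.2.2.2.1 [b, c, d] hmemA)
  have e203 : ev [a, b, c, d] 203 = img a (img b 203) :=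
    congrArg (fun z => img a (img b z)) (fix_of_levels scan_split.2.2.2.2.2 [c, d] hmemA2)
  have comm : ∀ x < 275, ev [a, b, c, d] (img tE.1 x) = img tE.1 (ev [a, b, c, d] x) := fun x hx => by
    have d1 := (dp.mul does_t).app hx
    have d2 := (does_t.mul dp).app hx
    rw [hu'] at d1
    exact d1.symm.trans d2
  have hl : leafC [a, b, c, d] = true := by
    have h := scanC_ok
    simp only [scanC, List.all_eq_true, Bool.or_eq_true, Bool.not_eq_true', List.any_eq_false] at h
    rcases h a ha with h | h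
    · exfalso
      have hM : inMB (ev [a, b, c, d] 3) = true := by
        rw [← dp.app (show 3 < 275 by norm_num)]
        exact (inM_map u.2 3).2 inM_three
      have hq := small_facts.2.2.2.2.2.1
      simp only [List.all_eq_true, List.mem_range, Bool.or_eq_true, Bool.not_eq_true', List.any_eq_true,
        Bool.and_eq_false_iff] at hq
      rcases hq _ (does_lt dp (show 3 < 275 by norm_num)) with (hf | hf) | ⟨q, hq', hqe⟩
      · rw [hM] at hf; exact Bool.noConfusion hf
      · rw [← comm 3 (by norm_num), t3, Nat.beq_refl] at hf; exact Bool.noConfusion hf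
      · rw [e3] at hqe
        exact h q hq' (by rw [Nat.eq_of_beq_eq_true hqe]; exact Nat.beq_refl _)
    · rcases h b hb with h | h
      · exfalso
        have hN : bitB maskN (ev [a, b, c, d] 203) = true := by
          rw [← dp.app (show 203 < 275 by norm_num)]
          exact (inN_map u.2 _).2 (by rw [InN, pnt_val (by norm_num)]; decide +kernel)
        have hq := small_facts.2.2.2.2.2.2.1
        simp only [List.all_eq_true, List.mem_range, Bool.or_eq_true, Bool.not_eq_true', List.any_eq_true,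
          Bool.and_eq_false_iff] at hq
        rcases hq _ (does_lt dp (show 203 < 275 by norm_num)) with (hf | hf) | ⟨q, hq', hqe⟩
        · rw [hN] at hf; exact Bool.noConfusion hf
        · rw [← comm 203 (by norm_num), t203, Nat.beq_refl] at hf; exact Bool.noConfusion hf
        · rw [e203] at hqe
          exact h q hq' (by rw [Nat.eq_of_beq_eq_true hqe]; exact Nat.beq_refl _)
      · exact h c hc d hd
  simp only [leafC, Bool.or_eq_true, Bool.not_eq_true', List.any_eq_true, List.mem_range] at hl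
  rcases hl with (h | ⟨i, hi, h⟩) | ⟨k, hk, i, -, j, -, h⟩
  · rw [agreeA_of comm] at h
    exact Bool.noConfusion h
  · exact Or.inl ⟨i, hi, Subtype.ext (agreeA_eq u.2 (tX ^ i).2 dp (does_t.powI i) h)⟩
  · have hmem : uE.getD k (0, []) ∈ [yE, tE] ++ uE ++ alphaH := by
      have hlen : uE.length = 13 := by decide +kernel
      rw [List.getD_eq_getElem _ _ (by omega)]
      exact List.mem_append_left _ (List.mem_append_right _ (List.getElem_mem _))
    exact Or.inr ⟨k, hk, hmem, i, j, Subtype.ext (agreeA_eq (tX ^ i * u ^ j).2 (el _ hmem).2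
      ((does_t.powI i).mul (dp.pow j)) (does_el _ hmem) h)⟩

end CfsgLib.Spor.McLThree
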