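import Cfsg.Agent.Lib.Spor.McLThree.Orbits
import Mathlib.GroupTheory.PGroup

/-!
A subgroup of index 112 of the stabilizer fixes one of the 112 points.
-/

set_option autoImplicit false
set_option maxRecDepth 100000

namespace CfsgLib.Spor.McLThree

open MulAction
open CfsgLib.Spor.McLPerm (fixSub pnt P)

/-- A group of prime power order fixes a point of an invariant set of size prime to it, and the number of fixed
points is congruent to the size. -/
theorem fixed_modEq (S : Subgroup (Equiv.Perm V)) {p : ℕ} [Fact p.Prime] (hS : IsPGroup p S) (A : Set V)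
    (hA : ∀ g ∈ S, ∀ z ∈ A, g z ∈ A) :
    A.ncard ≡ {z | z ∈ A ∧ ∀ g ∈ S, g z = z}.ncard [MOD p] := by
  letI inst : MulAction S A :=
    { smul := fun g z => ⟨g.1 z.1, hA g.1 g.2 z.1 z.2⟩
      one_smul := fun z => Subtype.ext rfl
      mul_smul := fun g h z => Subtype.ext rfl }
  have h := hS.card_modEq_card_fixedPoints A
  rw [Nat.card_coe_set_eq] at h
  convert h using 1
  rw [← Nat.card_coe_set_eq]
  exact Nat.card_congr
    { toFun := fun z => ⟨⟨z.1, z.2.1⟩, fun g => Subtype.ext (z.2.2 g.1 g.2)⟩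
      invFun := fun z => ⟨z.1.1, z.1.2, fun g hg => congrArg Subtype.val (z.2 ⟨g, hg⟩)⟩
      left_inv := fun z => rfl
      right_inv := fun z => rfl }

theorem sub_stab_le {A B : Subgroup (Equiv.Perm V)} (h : A ≤ B) (v : V) :
    A ⊓ stabilizer (Equiv.Perm V) v ≤ B ⊓ stabilizer (Equiv.Perm V) v := inf_le_inf_right _ h

/-- The orbit of a point under a group of order 729 in the stabilizer. -/
theorem sylow_orb {S : Subgroup (Equiv.Perm V)} (hS : S ≤ J) (hc : Nat.card S = 729) {v : V} :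
    (v ∈ setOf' o81.1 → 81 ≤ (orb S v).ncard) ∧ (v ∈ setOf' o30.1 → ¬ ∀ g ∈ S, g v = v) := by
  obtain ⟨s30, s81, -⟩ := sizes
  refine ⟨fun hv => ?_, fun hv hfix => ?_⟩
  · have h1 : Nat.card ↥(S ⊓ stabilizer (Equiv.Perm V) v) ∣ 360 := by
      have := Subgroup.card_dvd_of_le (sub_stab_le hS v)
      rwa [card_stab_J (o81_orbit v hv) (k := 360) (by rw [s81]) (by rw [s81]; norm_num)] at this
    have h2 : Nat.card ↥(S ⊓ stabilizer (Equiv.Perm V) v) ∣ 729 := hc ▸ Subgroup.card_dvd_of_le inf_le_left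
    have h3 := Nat.le_of_dvd (by norm_num) (Nat.dvd_gcd h1 h2)
    have e := orb_mul S v
    rw [hc] at e
    have h9 : Nat.card ↥(S ⊓ stabilizer (Equiv.Perm V) v) ≤ 9 := h3.trans (le_of_eq (by norm_num))
    by_contra hlt
    have := Nat.mul_le_mul (show (orb S v).ncard ≤ 80 by omega) h9
    omega
  · have hle : S ≤ J ⊓ stabilizer (Equiv.Perm V) v := fun g hg => ⟨hS hg, hfix g hg⟩
    have := Subgroup.card_dvd_of_le hle
    rw [hc, card_stab_J (o30_orbit v hv) (k := 972) (by rw [s30]) (by rw [s30]; norm_num)] at this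
    norm_num at this

theorem pairs {p : V} (hp : p ∈ setOf' o30.1) {h : Equiv.Perm V} (hh : h ∈ X) (h1 : h 1 = p) :
    {z : V | z ∈ setOf' o30.1 ∧ h z ∈ setOf' o30.1}.ncard ≤ 7 := by
  have hb := pairs_ok
  simp only [pairsOK, List.all_eq_true, List.mem_range, Bool.or_eq_true, Bool.not_eq_true', List.any_eq_true,
    Bool.and_eq_true] at hb
  obtain ⟨g, hg, hgp, hcnt⟩ := (hb p.1 p.2).resolve_left (by rw [show bitB o30.1 p.1 = true from hp]; decide)
  obtain ⟨x, hx, dx⟩ := memB _ (by rw [lvB_head]; exact List.mem_cons_self) g hg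
  have hj : x⁻¹ * h ∈ J := mem_J.2 ⟨mul_mem (inv_mem hx) hh, by
    rw [Equiv.Perm.mul_apply, h1, Equiv.Perm.inv_eq_iff_eq]
    exact Fin.ext ((Nat.eq_of_beq_eq_true hgp).symm.trans (dx 1).symm)⟩
  have hinv : ∀ z ∈ setOf' o30.1, (x⁻¹ * h) z ∈ setOf' o30.1 := fun z hz => by
    rw [← o30_orbit z hz]
    exact ⟨_, hj, rfl⟩
  refine le_trans ?_ (Nat.le_of_ble_eq_true hcnt)
  classical
  rw [← List.toFinset_card_of_nodup ((List.nodup_range).filter _), ← Set.ncard_coe_finset,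
    ← Set.ncard_image_of_injective {z : V | z ∈ setOf' o30.1 ∧ h z ∈ setOf' o30.1}
      (Fin.val_injective.comp (x⁻¹ * h).injective)]
  refine Set.ncard_le_ncard ?_ (Finset.finite_toSet _)
  rintro _ ⟨z, ⟨hz, hz'⟩, rfl⟩
  simp only [List.coe_toFinset, Set.mem_setOf_eq, List.mem_filter, List.mem_range, Bool.and_eq_true,
    Function.comp_apply]
  refine ⟨Fin.is_lt _, hinv z hz, ?_⟩
  have e : x ((x⁻¹ * h) z) = h z := by simp
  rw [← dx, e]
  exact hz'

theorem card_map_conj (K : Subgroup (Equiv.Perm V)) (g : Equiv.Perm V) :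
    Nat.card ↥(K.map (MulAut.conj g).toMonoidHom) = Nat.card K :=
  Subgroup.card_map_of_injective (MulAut.conj g).injective

/-- The normalised statement. -/
theorem stab_normal {K S : Subgroup (Equiv.Perm V)} (hK : K ≤ X) (hc : Nat.card K = 29160) (hSK : S ≤ K)
    (hSJ : S ≤ J) (hS : Nat.card S = 729) : ∀ g ∈ K, g 1 = 1 := by
  classical
  haveI : Fact (Nat.Prime 3) := ⟨Nat.prime_three⟩
  have hp : IsPGroup 3 S := IsPGroup.of_card (n := 6) (by rw [hS]; norm_num)
  set O := orb K 1 with hO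
  have hON : ∀ z ∈ O, InN z := by
    rintro _ ⟨g, hg, rfl⟩
    exact (inN_map (hK hg) 1).2 inN_one
  set K1 := K ⊓ stabilizer (Equiv.Perm V) (1 : V)
  have hSK1 : S ≤ K1 := fun g hg => ⟨hSK hg, (mem_J.1 (hSJ hg)).2⟩
  have hK1J : K1 ≤ J := fun g hg => mem_J.2 ⟨hK hg.1, hg.2⟩
  have hmul : O.ncard * Nat.card K1 = 29160 := hc ▸ orb_mul K 1
  have h729 : 729 ∣ Nat.card K1 := hS ▸ Subgroup.card_dvd_of_le hSK1
  have hdvd : O.ncard ∣ 40 := by
    obtain ⟨k, hk⟩ := h729
    refine ⟨k, ?_⟩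
    rw [hk] at hmul
    have : 729 * (O.ncard * k) = 729 * 40 := by rw [mul_left_comm, hmul]
    exact (Nat.eq_of_mul_eq_mul_left (by norm_num) this).symm
  have hSO : ∀ g ∈ S, ∀ z ∈ O, g z ∈ O := fun g hg z hz => orb_map (hSK hg) hz
  have hsub : ∀ z ∈ O, z ≠ 1 → z ∈ setOf' o30.1 := by
    intro z hz hne
    rcases (inN_split z).1 (hON z hz) with h | h | h
    · exact absurd h hne
    · exact h
    · exfalso
      have h1 := (sylow_orb hSJ hS).1 h
      have h2 : (orb S z).ncard ≤ O.ncard :=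
        Set.ncard_le_ncard (fun w ⟨g, hg, e⟩ => e ▸ hSO g hg z hz) (Set.toFinite _)
      have h3 := Nat.le_of_dvd (by norm_num) hdvd
      omega
  have hle : O.ncard ≤ 31 := by
    refine le_trans (Set.ncard_le_ncard (t := insert 1 (setOf' o30.1)) (fun z hz => ?_) (Set.toFinite _))
      ((Set.ncard_insert_le _ _).trans (by rw [ncard_setOf', sizes.1]))
    by_cases h : z = 1
    · exact Or.inl h
    · exact Or.inr (hsub z hz h)
  have hmod := fixed_modEq S hp O hSO
  rw [show {z | z ∈ O ∧ ∀ g ∈ S, g z = z} = {1} from Set.ext fun z => ⟨fun ⟨hz, hfix⟩ => by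
      by_contra hne
      exact (sylow_orb hSJ hS).2 (hsub z hz hne) hfix, fun e => by
      rw [Set.mem_singleton_iff] at e
      subst e
      exact ⟨mem_orb_self _ _, fun g hg => (mem_J.1 (hSJ hg)).2⟩⟩, Set.ncard_singleton] at hmod
  have hpos : 0 < O.ncard := (Set.ncard_pos (Set.toFinite _)).2 ⟨1, mem_orb_self _ _⟩
  have hcases : O.ncard = 1 ∨ O.ncard = 4 ∨ O.ncard = 10 := by
    unfold Nat.ModEq at hmod
    have key : ∀ n : Fin 32, n.1 ∣ 40 → n.1 % 3 = 1 → n.1 = 1 ∨ n.1 = 4 ∨ n.1 = 10 := by decide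
    exact key ⟨O.ncard, by omega⟩ hdvd hmod
  intro g hg
  rcases hcases with h | h | h
  · exact (Set.ncard_le_one_iff (Set.toFinite _)).1 h.le ⟨g, hg, rfl⟩ (mem_orb_self _ _)
  all_goals exfalso
  · obtain ⟨p, hpO, hp1⟩ := Set.exists_ne_of_one_lt_ncard (show 1 < O.ncard by omega) 1
    have hp30 := hsub p hpO hp1
    have hin : orb K1 p ⊆ O \ {1} := by
      rintro _ ⟨k, hk, rfl⟩
      refine ⟨orb_map hk.1 hpO, fun e => hp1 ?_⟩
      exact k.injective ((Set.mem_singleton_iff.1 e).trans hk.2.symm)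
    have hO3 : (O \ {1}).ncard = 3 := by rw [Set.ncard_diff_singleton_of_mem (mem_orb_self _ _), h]
    have hge : 3 ∣ (orb S p).ncard := by
      obtain ⟨j, -, hj⟩ := (Nat.dvd_prime_pow Nat.prime_three).1
        (show (orb S p).ncard ∣ 3 ^ 6 from (orb_dvd S p).trans (by rw [hS]; norm_num))
      rcases Nat.eq_zero_or_pos j with rfl | hj0
      · exfalso
        have h0 : (orb S p).ncard ≤ 1 := by rw [hj]; norm_num
        exact (sylow_orb hSJ hS).2 hp30 fun s hs =>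
          (Set.ncard_le_one_iff (Set.toFinite _)).1 h0 ⟨s, hs, rfl⟩ (mem_orb_self _ _)
      · rw [hj]; exact dvd_pow_self 3 hj0.ne'
    have h1 : (orb S p).ncard ≤ (orb K1 p).ncard :=
      Set.ncard_le_ncard (fun w ⟨s, hs, e⟩ => ⟨s, hSK1 hs, e⟩) (Set.toFinite _)
    have h2 := Set.ncard_le_ncard hin (Set.toFinite _)
    have h3 : 0 < (orb S p).ncard := (Set.ncard_pos (Set.toFinite _)).2 ⟨p, mem_orb_self _ _⟩
    have h4 := Nat.le_of_dvd h3 hge
    have e := orb_mul K1 p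
    rw [h] at hmul
    rw [show (orb K1 p).ncard = 3 by omega, show Nat.card K1 = 7290 by omega] at e
    have h5 := Subgroup.card_dvd_of_le (sub_stab_le hK1J p)
    rw [card_stab_J (o30_orbit p hp30) (k := 972) (by rw [sizes.1]) (by rw [sizes.1]; norm_num),
      show Nat.card ↥(K1 ⊓ stabilizer (Equiv.Perm V) p) = 2430 by omega] at h5
    norm_num at h5
  · obtain ⟨p, hpO, hp1⟩ := Set.exists_ne_of_one_lt_ncard (show 1 < O.ncard by omega) 1
    obtain ⟨k, hk, hk1⟩ := id hpO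
    have h7 := pairs (hsub p hpO hp1) (hK hk) hk1
    have hsub' : (⇑(k⁻¹ : Equiv.Perm V)) '' (O \ {1, p}) ⊆ {z : V | z ∈ setOf' o30.1 ∧ k z ∈ setOf' o30.1} := by
      rintro _ ⟨z, ⟨hz, hne⟩, rfl⟩
      simp only [Set.mem_insert_iff, Set.mem_singleton_iff, not_or] at hne
      refine ⟨hsub _ (orb_map (inv_mem hk) hz) fun e => hne.2 ?_, by simpa using hsub z hz hne.1⟩
      rw [Equiv.Perm.inv_eq_iff_eq] at e
      rw [e, hk1]
    have h8 := Set.ncard_le_ncard hsub' (Set.toFinite _)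
    rw [Set.ncard_image_of_injective _ (k⁻¹ : Equiv.Perm V).injective] at h8
    have h9 := Set.ncard_le_ncard_sdiff_add_ncard O ({1, p} : Set V) (Set.toFinite _)
    have h10 : ({1, p} : Set V).ncard ≤ 2 := (Set.ncard_insert_le _ _).trans (by rw [Set.ncard_singleton])
    omega

/-- **A subgroup of index 112 fixes one of the 112 points.** -/
theorem stab_of_index_N (K : Subgroup (Equiv.Perm V)) (hK : K ≤ X) (hc : Nat.card K = 29160) :
    ∃ n, InN n ∧ ∀ g ∈ K, g n = n := by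
  classical
  haveI : Fact (Nat.Prime 3) := ⟨Nat.prime_three⟩
  obtain ⟨S0, hS0⟩ := Sylow.exists_subgroup_card_pow_prime (G := ↥K) 3 (n := 6) (by rw [hc]; norm_num)
  set S := S0.map K.subtype
  have hSK : S ≤ K := Subgroup.map_subtype_le S0
  have hSc : Nat.card S = 729 := by rw [Subgroup.card_map_of_injective K.subtype_injective, hS0]; norm_num
  have hmod := fixed_modEq S (p := 3) (IsPGroup.of_card (n := 6) (by rw [hSc]; norm_num)) {z | InN z}
    fun g hg z hz => (inN_map (hK (hSK hg)) z).2 hz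
  rw [ncard_N] at hmod
  obtain ⟨n, hn, hfix⟩ : ∃ n, InN n ∧ ∀ g ∈ S, g n = n := by
    by_contra hne
    have h0 : {z | z ∈ {z | InN z} ∧ ∀ g ∈ S, g z = z} = (∅ : Set V) :=
      Set.eq_empty_of_forall_notMem fun z hz => hne ⟨z, hz.1, hz.2⟩
    rw [h0, Set.ncard_empty] at hmod
    simp [Nat.ModEq] at hmod
  obtain ⟨x, hx, hx1⟩ := (inN_iff n).1 hn
  let c := (MulAut.conj x⁻¹).toMonoidHom
  have hcK : K.map c ≤ X := by
    rintro _ ⟨g, hg, rfl⟩
    exact mul_mem (mul_mem (inv_mem hx) (hK hg)) (inv_mem (inv_mem hx))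
  have h := stab_normal (K := K.map c) (S := S.map c) hcK (by rw [card_map_conj, hc]) (Subgroup.map_mono hSK) (by
      rintro _ ⟨g, hg, rfl⟩
      refine mem_J.2 ⟨hcK ⟨g, hSK hg, rfl⟩, ?_⟩
      show (x⁻¹ * g * x⁻¹⁻¹) 1 = 1
      rw [inv_inv, Equiv.Perm.mul_apply, Equiv.Perm.mul_apply, hx1, hfix g hg, Equiv.Perm.inv_eq_iff_eq, hx1]) (by rw [card_map_conj, hSc])
  refine ⟨n, hn, fun g hg => ?_⟩
  have h1 := h _ ⟨g, hg, rfl⟩
  change (x⁻¹ * g * x⁻¹⁻¹) 1 = 1 at h1
  rwa [inv_inv, Equiv.Perm.mul_apply, Equiv.Perm.mul_apply, hx1, Equiv.Perm.inv_eq_iff_eq, hx1] at h1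

end CfsgLib.Spor.McLThree
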